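import Cfsg.Agent.Lib.Linear.TransvX.Offsets

/-!
# The field of two elements, non-vanishing offsets
-/

set_option autoImplicit false
set_option linter.unusedSectionVars false

namespace Cfsg.Lib.Linear.TransvX

open Module
open scoped Matrix
open Cfsg.Lib.Linear.Orth (gl_ext mul_act inv_act act_inv)

variable {ι : Type} [Fintype ι] [DecidableEq ι] {F : Type*} [Field F] [CharP F 2]
  {B : LinearMap.BilinForm F (ι → F)} {L : Subgroup (GL ι F)} {a b : ι → F}

/-- A product of two transvections. -/
def Two' (B : LinearMap.BilinForm F (ι → F)) (L : Subgroup (GL ι F)) (p q : ι → F) : Prop :=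
  el B p 0 (1 : F) * el B q 0 (1 : F) ∈ L

theorem el_one_eq (S : Sympl B) {z u : ι → F} (h : B z u = 0) :
    el B z u (1 : F) = el B (z + u) 0 (1 : F) * el B u 0 (1 : F) := by
  refine gl_ext fun x => ?_
  rw [mul_act, el_act S h, el_act S (map_zero _), el_act S (map_zero _)]
  simp only [map_zero, LinearMap.zero_apply, smul_zero, add_zero, map_add, LinearMap.add_apply, map_smul,
    smul_eq_mul, S.self, h, mul_zero, zero_add, one_mul]
  match_scalars <;> ring_nf <;> simp [CharTwo.two_eq_zero]

theorem el_zero_swap (S : Sympl B) {z u : ι → F} (h : B z u = 0) : el B z u (0 : F) = el B u z (0 : F) := by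
  refine gl_ext fun x => ?_
  rw [el_act S h, el_act S (by rw [S.symm]; exact h), zero_mul, zero_mul, add_zero, add_zero]
  abel

theorem Two'.trans (S : Sympl B) {p q r : ι → F} (h : Two' B L p q) (h' : Two' B L p r) : Two' B L q r := by
  have h2 := mul_mem (inv_mem h) h'
  have e : ∀ z : ι → F, (el B z 0 (1 : F))⁻¹ = el B z 0 (1 : F) := fun z =>
    inv_eq_of_mul_eq_one_right (el_sq S (map_zero _) _)
  rwa [mul_inv_rev, e, e, mul_assoc, ← mul_assoc (el B p 0 (1 : F)), el_sq S (map_zero _), one_mul] at h2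

theorem Two'.symm (S : Sympl B) {p q : ι → F} (h : Two' B L p q) : Two' B L q p := by
  have h2 := inv_mem h
  have e : ∀ z : ι → F, (el B z 0 (1 : F))⁻¹ = el B z 0 (1 : F) := fun z =>
    inv_eq_of_mul_eq_one_right (el_sq S (map_zero _) _)
  rwa [mul_inv_rev, e, e] at h2

variable (H : NoT B L a) (hF : ∀ x : F, x = 0 ∨ x = 1)
include H hF

/-- A non-vanishing offset puts every non-zero vector in the orbit. -/
theorem all_inD (hb : InD L a b) (hab : B a b = 1) (hK : ¬ K0 L a a b) {u : ι → F} (hu : u ≠ 0) :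
    InD L a u := by
  by_contra hno
  obtain ⟨k, hk, hk0⟩ : ∃ k : F, InD L a (b + k • a) ∧ k ≠ 0 := by
    simpa [K0] using hK
  refine hu (eq_zero_of_invariant H.ctx H.ne (fun u => ¬ InD L a u) (fun g hg u h h' => h (h'.of_act hg))
    (fun u h => ?_) hno)
  by_contra hne
  obtain ⟨w, hw, e⟩ := exists_vec H.sympl hab u
  refine h ?_
  rw [e, (hF (B a u)).resolve_left hne]
  generalize B b u = α
  rcases hF (α + phi B L a w) with h0 | h1
  · rw [CharTwo.add_eq_zero.1 h0]
    have := orbit_pt H (InD.self H.ctx) hab hw (k := 0) (by rw [zero_smul, add_zero]; exact hb)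
    rwa [zero_add] at this
  · rw [show α = k + phi B L a w by
      rw [(hF k).resolve_left hk0, ← h1, add_assoc, CharTwo.add_self_eq_zero, add_zero]]
    exact orbit_pt H (InD.self H.ctx) hab hw hk

variable (hall : ∀ u : ι → F, u ≠ 0 → InD L a u)
include hall

theorem phi_shift {z u : ι → F} (hz : z ≠ 0) (h : B z u = 0) : phi B L z (u + z) = phi B L z u := by
  have hu : B z (u + z) = 0 := by rw [map_add, h, H.sympl.self, add_zero]
  refine phi_eq H (hall z hz) hu ?_
  have e := el_add_self H.sympl h 1 (phi B L z u)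
  rw [one_smul] at e
  rw [e]
  exact phi_mem H (hall z hz) h

theorem phi_sym {z u : ι → F} (hz : z ≠ 0) (hu : u ≠ 0) (h : B z u = 0) : phi B L z u = phi B L u z := by
  have h' : B u z = 0 := by rw [H.sympl.symm]; exact h
  rcases hF (phi B L z u) with e | e
  · have := phi_mem H (hall z hz) h
    rw [e, el_zero_swap H.sympl h] at this
    rw [e, phi_eq H (hall u hu) h' this]
  · rcases hF (phi B L u z) with e' | e'
    · have := phi_mem H (hall u hu) h'
      rw [e', el_zero_swap H.sympl h'] at this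
      rw [phi_eq H (hall z hz) h this, e']
    · rw [e, e']

theorem two_of_phi {z u : ι → F} (hz : z ≠ 0) (hu : u ≠ 0) (h : B z u = 0) (h1 : phi B L z u = 1) :
    Two' B L z u := by
  have h' : B u z = 0 := by rw [H.sympl.symm]; exact h
  have m1 := phi_mem H (hall z hz) h
  rw [h1, el_one_eq H.sympl h] at m1
  have m2 := phi_mem H (hall u hu) h'
  rw [← phi_sym H hF hall hz hu h, h1, el_one_eq H.sympl h', add_comm u z] at m2
  exact Two'.trans H.sympl (p := z + u) m2 m1

theorem phi_of_two {p q : ι → F} (hp : p ≠ 0) (hq : q ≠ 0) (hpq : p ≠ q) (h : B p q = 0) (h2 : Two' B L p q) :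
    phi B L p q = 1 := by
  have hs : p + q ≠ 0 := fun e => hpq (eq_of_vadd e)
  have hsq : B (p + q) q = 0 := by rw [map_add, LinearMap.add_apply, h, H.sympl.self, add_zero]
  have h' : B q p = 0 := by rw [H.sympl.symm]; exact h
  have e : phi B L (p + q) q = 1 := phi_eq H (hall _ hs) hsq (by
    rw [el_one_eq H.sympl hsq, add_assoc, vadd_self, add_zero]; exact h2)
  rw [phi_sym H hF hall hp hq h, ← phi_shift H hF hall hq h', ← phi_sym H hF hall hs hq hsq, e]

/-- In dimension at least five this is impossible. -/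
theorem dim_le_four [Fintype F] (hab : B a b = 1) : Fintype.card ι ≤ 4 := by
  by_contra hgt
  push Not at hgt
  have S := H.sympl
  have R := rootFun H (InD.self H.ctx)
  obtain ⟨u, hu, hφu⟩ := R.surj S hab H.dim 1
  have hu0 : u ≠ 0 := fun e => by rw [e, R.zero S] at hφu; exact zero_ne_one hφu
  obtain ⟨u₁, -, h1⟩ := exists_dualW S hab hu hu0
  obtain ⟨y, hy, hy0⟩ := Submodule.exists_mem_ne_zero_of_ne_bot (LinearMap.ker_ne_bot_of_finrank_lt
    (f := LinearMap.pi fun i : Fin 4 => B (![a, b, u, u₁] i)) (by simp; omega))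
  have hy' : ∀ i : Fin 4, B (![a, b, u, u₁] i) y = 0 := fun i => congrFun (LinearMap.mem_ker.1 hy) i
  have hay : B a y = 0 := hy' 0
  have hyW : InW B a b y := ⟨hay, hy' 1⟩
  have huy : B u y = 0 := hy' 2
  have hyu : y ≠ u := fun e => by
    have : B u₁ y = 0 := hy' 3
    rw [e, S.symm, h1] at this
    exact one_ne_zero this
  have key : ∀ w, InW B a b w → B u w = 0 → w ≠ 0 → w ≠ u → phi B L a w = 1 → False := by
    intro w hw huw hw0 hwu hφw
    have ha := H.ne
    have hne : ∀ {v}, InW B a b v → v ≠ 0 → a ≠ v := fun {v} hv _ e => by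
      have := hv.2
      rw [← e, S.symm, hab] at this
      exact one_ne_zero this
    have t1 := two_of_phi H hF hall ha hu0 hu.1 hφu
    have t2 := two_of_phi H hF hall ha hw0 hw.1 hφw
    have e1 := phi_of_two H hF hall hu0 hw0 (Ne.symm hwu) huw (Two'.trans S t1 t2)
    have hs : w + u ≠ 0 := fun e => hwu (eq_of_vadd e)
    have hs' : B u (w + u) = 0 := by rw [map_add, huw, S.self, add_zero]
    rw [← phi_shift H hF hall hu0 huw] at e1
    have t3 := two_of_phi H hF hall hu0 hs hs' e1
    have t4 := Two'.trans S (Two'.symm S t1) t3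
    have e2 := phi_of_two H hF hall ha hs (hne (hw.add hu) hs) (hw.add hu).1 t4
    rw [R.add _ _ hw.1 hu.1, hφw, hφu, S.symm w u, huw, add_zero, CharTwo.add_self_eq_zero] at e2
    exact zero_ne_one e2
  rcases hF (phi B L a y) with h0 | h0
  · refine key (y + u) (hyW.add hu) ?_ ?_ ?_ ?_
    · rw [map_add, huy, S.self, add_zero]
    · exact fun e => hyu (eq_of_vadd e)
    · exact fun e => hy0 (by simpa using e)
    · rw [R.add _ _ hay hu.1, h0, hφu, S.symm, huy, add_zero, zero_add]
  · exact key y hyW huy hy0 hyu h0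

/-- The orders in dimension four. -/
theorem card_four [Fintype F] (hab : B a b = 1) (hd : Fintype.card ι = 4) :
    60 ∣ Nat.card L ∧ (Nat.card L = 60 → ∃ P : Subgroup L, Nat.card P = 4 ∧
      ∀ g ∈ Subgroup.normalizer (P : Set L), g ∈ P) := by
  classical
  have hcF : Fintype.card F = 2 := by
    rw [← Finset.card_univ, show (Finset.univ : Finset F) = {0, 1} by ext x; simpa using hF x,
      Finset.card_pair zero_ne_one]
  letI : MulAction L (ι → F) :=
    { smul := fun g x => g.1.val *ᵥ x
      one_smul := fun x => Matrix.one_mulVec x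
      mul_smul := fun g h x => mul_act g.1 h.1 x }
  have S := H.sympl
  have R := rootFun H (InD.self H.ctx)
  have horb : MulAction.orbit L a = {0}ᶜ := by
    ext u
    refine ⟨?_, fun hu => ?_⟩
    · rintro ⟨g, rfl⟩ e
      exact Orth.act_ne_zero (g := g.1) H.ne (Set.mem_singleton_iff.1 e)
    · obtain ⟨g, hg, c, hc, e⟩ := hall u hu
      exact ⟨⟨g, hg⟩, by rw [← e, (hF c).resolve_left hc, one_smul]; rfl⟩
  have hidx : (MulAction.stabilizer L a).index = 15 := by
    rw [MulAction.index_stabilizer, horb, Set.ncard_compl, Set.ncard_singleton, Nat.card_fun,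
      Nat.card_eq_fintype_card, Nat.card_eq_fintype_card, hcF, hd]
    norm_num
  let f : {v // InW B a b v} → L := fun v => ⟨el B a v.1 (phi B L a v.1), R.mem _ v.2.1⟩
  let P : Subgroup L :=
    { carrier := Set.range f
      mul_mem' := by
        rintro _ _ ⟨v, rfl⟩ ⟨v', rfl⟩
        refine ⟨⟨v.1 + v'.1, v.2.add v'.2⟩, Subtype.ext ?_⟩
        show el B a (v.1 + v'.1) _ = el B a v.1 _ * el B a v'.1 _
        rw [el_mul S v.2.1 v'.2.1, R.add _ _ v.2.1 v'.2.1]
      one_mem' := ⟨⟨0, InW.zero S⟩, Subtype.ext (by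
        show el B a 0 _ = 1
        rw [R.zero S, el_zero S])⟩
      inv_mem' := by
        rintro _ ⟨v, rfl⟩
        refine ⟨v, (inv_eq_of_mul_eq_one_right (Subtype.ext ?_)).symm⟩
        exact el_sq S v.2.1 _ }
  have hfinj : Function.Injective f := fun v v' e => by
    have e' : (el B a v.1 (phi B L a v.1)).val *ᵥ b = (el B a v'.1 (phi B L a v'.1)).val *ᵥ b :=
      congrArg (fun g : L => g.1.val *ᵥ b) e
    rw [el_act S v.2.1, el_act S v'.2.1, hab, S.symm v.1 b, S.symm v'.1 b, v.2.2, v'.2.2, one_smul, one_smul,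
      zero_add, zero_add, mul_one, mul_one, add_assoc, add_assoc] at e'
    have e'' := add_left_cancel e'
    have h1 := congrArg (B b) e''
    rw [map_add, map_add, v.2.2, v'.2.2, map_smul, map_smul, S.symm b a, hab, zero_add, zero_add, smul_eq_mul,
      smul_eq_mul, mul_one, mul_one] at h1
    rw [h1] at e''
    exact Subtype.ext (add_right_cancel e'')
  have hW : Nat.card {v // InW B a b v} = 4 := by
    have hbij : Function.Bijective (fun p : F × {v // InW B a b v} × F => vec a b p.1 p.2.1.1 p.2.2) := by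
      refine ⟨fun p p' e => ?_, fun x => ?_⟩
      · simp only at e
        have h1 := congrArg (B a) e
        rw [co_left S hab p.2.1.2, co_left S hab p'.2.1.2] at h1
        have h2 := congrArg (B b) e
        rw [co_right S hab p.2.1.2, co_right S hab p'.2.1.2] at h2
        rw [h1, h2] at e
        simp only [vec] at e
        exact Prod.ext h1 (Prod.ext (Subtype.ext (add_left_cancel (add_right_cancel e))) h2)
      · obtain ⟨w, hw, e⟩ := exists_vec S hab x
        exact ⟨(B a x, ⟨w, hw⟩, B b x), e.symm⟩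
    have h := Nat.card_eq_of_bijective _ hbij
    rw [Nat.card_prod, Nat.card_prod, Nat.card_fun, Nat.card_eq_fintype_card (α := F),
      Nat.card_eq_fintype_card (α := ι), hcF, hd] at h
    omega
  have hP : Nat.card P = 4 := by
    rw [← hW]
    exact (Nat.card_congr (Equiv.ofInjective f hfinj)).symm
  have hPle : P ≤ MulAction.stabilizer L a := by
    rintro _ ⟨v, rfl⟩
    show (el B a v.1 _).val *ᵥ a = a
    rw [el_act S v.2.1, S.self, S.symm v.1 a, v.2.1]
    simp
  have hmul := (MulAction.stabilizer L a).card_mul_index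
  rw [hidx] at hmul
  refine ⟨?_, fun h60 => ⟨P, hP, fun g hg => ?_⟩⟩
  · rw [← hmul, show (60 : ℕ) = 4 * 15 from rfl, ← hP]
    exact Nat.mul_dvd_mul_right (Subgroup.card_dvd_of_le hPle) 15
  have hPeq : P = MulAction.stabilizer L a :=
    Subgroup.eq_of_le_of_card_ge hPle (by omega)
  rw [hPeq]
  show g.1.val *ᵥ a = a
  set x := g.1.val *ᵥ a with hx
  have hfix : ∀ v : {v // InW B a b v}, (f v).1.val *ᵥ x = x := fun v => by
    have hm := (Subgroup.mem_normalizer_iff.1 (inv_mem hg) (f v)).1 ⟨v, rfl⟩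
    rw [inv_inv] at hm
    have h0 : (g⁻¹ * f v * g).1.val *ᵥ a = a := hPle hm
    rw [Subgroup.coe_mul, Subgroup.coe_mul, mul_act, mul_act] at h0
    have := congrArg (fun y => g.1.val *ᵥ y) h0
    simpa only [Subgroup.coe_inv, act_inv, ← hx] using this
  obtain ⟨w, hw, e⟩ := exists_vec S hab x
  have hx0 : x ≠ 0 := Orth.act_ne_zero H.ne
  have hγ : B a x = 0 := by
    obtain ⟨v, hv, hv0⟩ := exists_W_ne S hab H.dim
    obtain ⟨v₁, hv₁, h1⟩ := exists_dualW S hab hv hv0
    have h := congrArg (B v₁) (hfix ⟨v, hv⟩)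
    rw [el_act S hv.1, map_add, map_add, map_smul, map_smul, S.symm v₁ v, h1, S.symm v₁ a, hv₁.1, smul_zero,
      add_zero, smul_eq_mul, mul_one] at h
    simpa using h
  have hwz : w = 0 := by
    by_contra hw0
    obtain ⟨v, hv, h1⟩ := exists_dualW S hab hw hw0
    have h := congrArg (B b) (hfix ⟨v, hv⟩)
    rw [el_act S hv.1, hγ, zero_smul, add_zero, mul_zero, add_zero, map_add, map_smul, S.symm b a, hab,
      smul_eq_mul, mul_one] at h
    have h' : B v x = 0 := by simpa using h
    rw [e, co_W S hab hv, S.symm, h1] at h'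
    exact one_ne_zero h'
  rw [e, hγ, hwz, vec, zero_smul, zero_add, zero_add] at hx0 ⊢
  rcases hF (B b x) with h | h
  · exact absurd (by rw [h, zero_smul]) hx0
  · rw [h, one_smul]

end Cfsg.Lib.Linear.TransvX
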