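import Cfsg.Agent.Lib.Linear.TransvX.Orth
import Cfsg.Agent.Lib.Linear.TransvX.Two

/-!
# Irreducible overgroups of a large group without transvections in the radical of a point stabiliser
-/

set_option autoImplicit false
set_option linter.unusedSectionVars false

namespace Cfsg.Lib.Linear.TransvX

open Module
open scoped Matrix
open Cfsg.Lib.Linear.Orth (gl_ext mul_act inv_act act_inv fixSpace mem_fixSpace)

variable {ι : Type} [Fintype ι] [DecidableEq ι] {F : Type*} [Field F] [CharP F 2] [Fintype F]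
  {B : LinearMap.BilinForm F (ι → F)} {a b : ι → F}

/-- The component in the orthogonal space of a pair of a vector orthogonal to the point. -/
def prW (B : LinearMap.BilinForm F (ι → F)) (a b u : ι → F) : ι → F := u + B b u • a

theorem prW_mem (S : Sympl B) (hab : B a b = 1) {u : ι → F} (hu : B a u = 0) : InW B a b (prW B a b u) :=
  ⟨by rw [prW, map_add, hu, map_smul, S.self, smul_zero, add_zero],
    by rw [prW, map_add, map_smul, S.symm b a, hab, smul_eq_mul, mul_one, CharTwo.add_self_eq_zero]⟩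

theorem prW_eq {u : ι → F} (hu : InW B a b u) : prW B a b u = u := by
  rw [prW, hu.2, zero_smul, add_zero]

theorem prW_add_smul (S : Sympl B) (hab : B a b = 1) (u : ι → F) (c : F) :
    prW B a b (u + c • a) = prW B a b u := by
  rw [prW, prW, map_add, map_smul, S.symm b a, hab, smul_eq_mul, mul_one]
  match_scalars <;> ring_nf <;> simp [CharTwo.two_eq_zero]

theorem card_W (S : Sympl B) (hab : B a b = 1) :
    Nat.card {v // InW B a b v} * (Fintype.card F * Fintype.card F) = Fintype.card F ^ Fintype.card ι := by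
  have hbij : Function.Bijective (fun p : F × {v // InW B a b v} × F => vec a b p.1 p.2.1.1 p.2.2) := by
    refine ⟨fun p p' e => ?_, fun x => ?_⟩
    · simp only at e
      have h1 := congrArg (B a) e
      rw [co_left S hab p.2.1.2, co_left S hab p'.2.1.2] at h1
      have h2 := congrArg (B b) e
      rw [co_right S hab p.2.1.2, co_right S hab p'.2.1.2] at h2
      rw [h1, h2] at e
      simp only [vec] at e
      exact Prod.ext h1 (Prod.ext (Subtype.ext (add_left_cancel (add_right_cancel e))) h2)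
    · obtain ⟨w, hw, e⟩ := exists_vec S hab x
      exact ⟨(B a x, ⟨w, hw⟩, B b x), e.symm⟩
  have h := Nat.card_eq_of_bijective _ hbij
  rw [Nat.card_prod, Nat.card_prod, Nat.card_fun, Nat.card_eq_fintype_card (α := F),
    Nat.card_eq_fintype_card (α := ι)] at h
  rw [← h]; ring

theorem card_W_eq (S : Sympl B) (hab : B a b = 1) (hd : 3 ≤ Fintype.card ι) :
    Nat.card {v // InW B a b v} = Fintype.card F ^ (Fintype.card ι - 2) := by
  have h := card_W S hab
  have hq : 0 < Fintype.card F * Fintype.card F := Nat.mul_pos Fintype.card_pos Fintype.card_pos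
  refine Nat.eq_of_mul_eq_mul_right hq (h.trans ?_)
  rw [← sq, ← pow_add]
  congr 1
  omega

/-- A `2`-group fixing the point and normalised by the transvections fixing it lies in the radical. -/
theorem exists_el (S : Sympl B) (ha : a ≠ 0) (hd : 3 ≤ Fintype.card ι) (N : Subgroup (GL ι F))
    (hN : IsPGroup 2 N) (hp : ∀ g ∈ N, ∀ u v, B (g.val *ᵥ u) (g.val *ᵥ v) = B u v)
    (hfa : ∀ g ∈ N, g.val *ᵥ a = a)
    (hnorm : ∀ z, B a z = 0 → ∀ g ∈ N, el B z 0 (1 : F) * g * (el B z 0 (1 : F))⁻¹ ∈ N)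
    {g : GL ι F} (hg : g ∈ N) : ∃ v t, B a v = 0 ∧ g = el B a v t := by
  classical
  obtain ⟨b, -, hab⟩ := exists_sep S (d := 0) (u := a) (fun c => by simpa using ha)
  haveI : Fact (Nat.Prime 2) := ⟨Nat.prime_two⟩
  have hperp : ∀ k ∈ N, ∀ u, B a (k.val *ᵥ u) = B a u := fun k hk u => by
    conv_lhs => rw [← hfa k hk]
    exact hp k hk a u
  letI act : MulAction N {v // InW B a b v} :=
    { smul := fun k w => ⟨prW B a b (k.1.val *ᵥ w.1), prW_mem S hab (by rw [hperp k.1 k.2]; exact w.2.1)⟩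
      one_smul := fun w => Subtype.ext (by
        show prW B a b ((1 : GL ι F).val *ᵥ w.1) = w.1
        rw [Units.val_one, Matrix.one_mulVec, prW_eq w.2])
      mul_smul := fun k l w => Subtype.ext (by
        show prW B a b ((k.1 * l.1).val *ᵥ w.1) = prW B a b (k.1.val *ᵥ prW B a b (l.1.val *ᵥ w.1))
        conv_rhs => arg 4; rw [prW, Matrix.mulVec_add, Matrix.mulVec_smul, hfa k.1 k.2, ← mul_act]
        rw [prW_add_smul S hab]) }
  have hdvd : 2 ∣ Nat.card {v // InW B a b v} := by
    rw [card_W_eq S hab hd]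
    refine dvd_pow ?_ (by omega)
    obtain ⟨n, -, hn⟩ := FiniteField.card F 2
    rw [hn]
    exact dvd_pow_self 2 n.ne_zero
  obtain ⟨w₀, hw₀, hne⟩ := hN.exists_fixed_point_of_prime_dvd_card_of_fixed_point {v // InW B a b v} hdvd
    (a := ⟨0, InW.zero S⟩) (fun k => Subtype.ext (by
      show prW B a b (k.1.val *ᵥ 0) = 0
      rw [Matrix.mulVec_zero, prW_eq (InW.zero S)]))
  -- the vectors moved along the point
  let M : Submodule F (ι → F) :=
    { carrier := {u | B a u = 0 ∧ ∀ k ∈ N, ∃ c : F, k.val *ᵥ u = u + c • a}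
      add_mem' := fun {u v} hu hv => ⟨by rw [map_add, hu.1, hv.1, add_zero], fun k hk => by
        obtain ⟨c, hc⟩ := hu.2 k hk
        obtain ⟨d, hd⟩ := hv.2 k hk
        exact ⟨c + d, by rw [Matrix.mulVec_add, hc, hd, add_smul]; abel⟩⟩
      zero_mem' := ⟨map_zero _, fun k _ => ⟨0, by simp⟩⟩
      smul_mem' := fun e u hu => ⟨by rw [map_smul, hu.1, smul_zero], fun k hk => by
        obtain ⟨c, hc⟩ := hu.2 k hk
        exact ⟨e * c, by rw [Matrix.mulVec_smul, hc, smul_add, mul_smul]⟩⟩ }
  have hw₀M : w₀.1 ∈ M := ⟨w₀.2.1, fun k hk => ⟨B b (k.val *ᵥ w₀.1), by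
    have h : prW B a b (k.val *ᵥ w₀.1) = w₀.1 := congrArg Subtype.val (hw₀ ⟨k, hk⟩)
    rw [prW] at h
    nth_rewrite 2 [← h]
    rw [add_assoc, vadd_self, add_zero]⟩⟩
  have hw0 : w₀.1 ≠ 0 := fun e => hne (Subtype.ext e.symm)
  have hz : ∀ z, B a z = 0 → B z w₀.1 ≠ 0 → z ∈ M := by
    intro z hza hzw
    have hta : (el B z 0 (1 : F)).val *ᵥ a = a := by
      rw [el_act S (map_zero _), S.symm z a, hza]
      simp
    have hm : (el B z 0 (1 : F)).val *ᵥ w₀.1 ∈ M := by
      refine ⟨?_, fun k hk => ?_⟩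
      · have h := el_preserves S (map_zero _) (1 : F) a w₀.1 (a := z)
        rw [hta] at h
        exact h.trans w₀.2.1
      · obtain ⟨c, hc⟩ := hw₀M.2 _ (hnorm z hza k hk)
        refine ⟨c, ?_⟩
        have hinv : (el B z 0 (1 : F))⁻¹ = el B z 0 (1 : F) := inv_eq_of_mul_eq_one_right (el_sq S (map_zero _) _)
        rw [hinv, mul_act, mul_act] at hc
        have := congrArg (fun y => (el B z 0 (1 : F)).val *ᵥ y) hc
        simp only [← mul_act] at this
        rwa [← mul_assoc, ← mul_assoc, el_sq S (map_zero _), one_mul, Matrix.mulVec_add, Matrix.mulVec_smul,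
          mul_act, hta] at this
    have h2 := M.smul_mem (B z w₀.1)⁻¹ (M.add_mem hm hw₀M)
    rw [el_act S (map_zero _), smul_zero, add_zero, map_zero, LinearMap.zero_apply, zero_add, one_mul,
      add_comm w₀.1, add_assoc, vadd_self, add_zero, inv_smul_smul₀ hzw] at h2
    exact h2
  have hall : ∀ z, B a z = 0 → z ∈ M := by
    intro z hza
    by_cases hzw : B z w₀.1 = 0
    · obtain ⟨z₁, hz₁, h1⟩ := exists_dualW S hab w₀.2 hw0
      have h1' : B z₁ w₀.1 = 1 := by rw [S.symm]; exact h1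
      have hm := M.add_mem (hz (z + z₁) (by rw [map_add, hza, hz₁.1, add_zero])
        (by rw [map_add, LinearMap.add_apply, hzw, h1', zero_add]; exact one_ne_zero))
        (hz z₁ hz₁.1 (by rw [h1']; exact one_ne_zero))
      rwa [add_assoc, vadd_self, add_zero] at hm
    · exact hz z hza hzw
  -- reading off the parameters
  obtain ⟨v, hv, e⟩ := exists_vec S hab (g.val *ᵥ b)
  have h1 : B a (g.val *ᵥ b) = 1 := by rw [hperp g hg]; exact hab
  rw [h1] at e
  generalize B b (g.val *ᵥ b) = t at e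
  refine ⟨v, t, hv.1, gl_ext fun x => ?_⟩
  obtain ⟨w, hw, ex⟩ := exists_vec S hab x
  obtain ⟨c, hc⟩ := (hall w hw.1).2 g hg
  have hcv : c = B v w := by
    have h := hp g hg b w
    rw [hw.2, e, hc, map_add, map_smul, co_W S hab hw 1 v t |> fun h' => (S.symm _ _).trans h',
      (S.symm _ a).trans (co_left S hab hv 1 t)] at h
    rw [smul_eq_mul, mul_one] at h
    rw [← CharTwo.add_eq_zero.1 h, S.symm]
  rw [ex, el_vec S hab hv hw]
  simp only [vec, Matrix.mulVec_add, Matrix.mulVec_smul, hfa g hg, e, hc, hcv]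
  match_scalars <;> ring

theorem rank_el (S : Sympl B) (hab : B a b = 1) {t : F} (ht : t ≠ 0) :
    ((el B a 0 t).val - 1).rank = 1 := by
  have ha : a ≠ 0 := fun e => by simp [e] at hab
  have hfix : fixSpace (el B a 0 t) = LinearMap.ker (B a) := by
    ext p
    rw [mem_fixSpace, el_act S (map_zero _), LinearMap.mem_ker]
    simp [ht, ha]
  have hsurj : LinearMap.range (B a) = ⊤ :=
    LinearMap.range_eq_top.2 fun c => ⟨c • b, by rw [map_smul, hab, smul_eq_mul, mul_one]⟩
  have h1 := LinearMap.finrank_range_add_finrank_ker (B a)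
  rw [hsurj, finrank_top, finrank_self, finrank_fintype_fun_eq_card] at h1
  have h2 := rank_fix (el B a 0 t)
  rw [hfix] at h2
  omega

/-- A group of the order of the orthogonal space with no transvection gives a function. -/
theorem exists_rootFun (S : Sympl B) (ha : a ≠ 0) (hd : 3 ≤ Fintype.card ι) (X : Subgroup (GL ι F))
    (hX : ∀ g ∈ X, ∃ v t, B a v = 0 ∧ g = el B a v t) (hnt : ∀ x ∈ X, (x.val - 1).rank ≠ 1)
    (hcard : Nat.card X = Fintype.card F ^ (Fintype.card ι - 2)) : ∃ φ, RootFun B X a φ := by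
  classical
  obtain ⟨b, -, hab⟩ := exists_sep S (d := 0) (u := a) (fun c => by simpa using ha)
  have hnoT : ∀ t, el B a 0 t ∈ X → t = 0 := fun t ht => by
    by_contra h
    exact hnt _ ht (rank_el S hab h)
  have hX' : ∀ g : X, ∃ w : {v // InW B a b v}, ∃ t, g.1 = el B a w.1 t := fun g => by
    obtain ⟨v, t, hv, e⟩ := hX g.1 g.2
    exact ⟨⟨prW B a b v, prW_mem S hab hv⟩, t, by
      show g.1 = el B a (v + B b v • a) t
      rw [e, el_add_self S hv]⟩
  choose ψ τ hψ using hX'
  have huniq : ∀ {v : ι → F}, B a v = 0 → ∀ {t t' : F}, el B a v t ∈ X → el B a v t' ∈ X → t = t' := by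
    intro v hv t t' h h'
    have hm := mul_mem h h'
    rw [el_mul S hv hv, vadd_self, S.self, add_zero] at hm
    exact CharTwo.add_eq_zero.1 (hnoT _ hm)
  have hinj : Function.Injective ψ := fun g g' e => by
    have h := g.2
    have h' := g'.2
    rw [hψ g, e] at h
    rw [hψ g'] at h'
    refine Subtype.ext ?_
    rw [hψ g, hψ g', e, huniq (ψ g').2.1 h h']
  have hsurj : Function.Surjective ψ :=
    ((Nat.bijective_iff_injective_and_card ψ).2 ⟨hinj, by rw [hcard, card_W_eq S hab hd]⟩).2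
  have hfull : ∀ v, B a v = 0 → ∃ t, el B a v t ∈ X := fun v hv => by
    obtain ⟨g, hg⟩ := hsurj ⟨prW B a b v, prW_mem S hab hv⟩
    refine ⟨τ g, ?_⟩
    have h := g.2
    rw [hψ g, hg] at h
    change el B a (v + B b v • a) (τ g) ∈ X at h
    rwa [el_add_self S hv] at h
  let φ : (ι → F) → F := fun v => Classical.epsilon fun t => el B a v t ∈ X
  have hmem : ∀ v, B a v = 0 → el B a v (φ v) ∈ X := fun v hv => Classical.epsilon_spec (hfull v hv)
  refine ⟨φ, hmem, fun u v hu hv => ?_⟩
  have huv : B a (u + v) = 0 := by rw [map_add, hu, hv, add_zero]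
  refine huniq huv (hmem _ huv) ?_
  rw [← el_mul S hu hv]
  exact mul_mem (hmem u hu) (hmem v hv)

/-- The three possibilities. -/
theorem trichotomy {L : Subgroup (GL ι F)} (C : Irr B L) (ha : a ≠ 0) (hd : 4 ≤ Fintype.card ι)
    (hev : Even (Fintype.card ι)) {φ : (ι → F) → F} (hφ : RootFun B L a φ) :
    (∀ z c, el B z 0 c ∈ L) ∨ (∃ b, QFrame B L a a b) ∨
      (Fintype.card F = 2 ∧ Fintype.card ι = 4 ∧ el B a 0 (1 : F) ∉ L ∧ 60 ∣ Nat.card L ∧
        (Nat.card L = 60 → ∃ P : Subgroup L, Nat.card P = 4 ∧ ∀ g ∈ Subgroup.normalizer (P : Set L), g ∈ P)) := by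
  classical
  by_cases hT : ∃ t₀ : F, t₀ ≠ 0 ∧ el B a 0 t₀ ∈ L
  · obtain ⟨t₀, ht₀, ht⟩ := hT
    exact Or.inl fun z c => all_transvections C hφ (by omega) ha ht₀ ht z c
  push Not at hT
  refine Or.inr ?_
  have H : NoT B L a := ⟨C, ha, fun v hv => ⟨φ v, hφ.mem v hv⟩,
    fun t ht => by_contra fun h => hT t h ht, by omega⟩
  obtain ⟨b, hb, hab⟩ := exists_inD_nonperp C ha
  by_cases hK : K0 L a a b
  · exact Or.inl ⟨b, H, InD.self C, hb, hab, hK⟩
  refine Or.inr ?_
  have hF : ∀ x : F, x = 0 ∨ x = 1 := fun x => by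
    by_contra h
    push Not at h
    exact hK (K0_of_scalar H (InD.self C) hab hb ⟨x, h.1, h.2⟩)
  have hall : ∀ u : ι → F, u ≠ 0 → InD L a u := fun u hu => all_inD H hF hb hab hK hu
  have hι : Fintype.card ι = 4 := le_antisymm (dim_le_four H hF hall hab) hd
  refine ⟨?_, hι, hT 1 one_ne_zero, card_four H hF hall hab hι⟩
  rw [← Finset.card_univ, show (Finset.univ : Finset F) = {0, 1} by ext x; simpa using hF x,
    Finset.card_pair zero_ne_one]

end Cfsg.Lib.Linear.TransvX
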