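import Cfsg.Agent.Lib.Linear.TransvX.Main
import Cfsg.Agent.Lib.Linear.SymplecticMax

/-!
# Four-dimensional symplectic spaces of characteristic two

Coordinates in a symplectic basis and identities between short and long root elements.
-/

set_option autoImplicit false
set_option linter.unusedSectionVars false

namespace Cfsg.Lib.Linear.TransvX

open Module
open scoped Matrix
open Cfsg.Lib.Linear.Orth (gl_ext mul_act inv_act act_inv)

variable {ι : Type} [Fintype ι] [DecidableEq ι] {F : Type*} [Field F] [CharP F 2]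
  {B : LinearMap.BilinForm F (ι → F)}

/-- The isometries of the form. -/
def Pres (B : LinearMap.BilinForm F (ι → F)) (g : GL ι F) : Prop :=
  ∀ u v, B (g.val *ᵥ u) (g.val *ᵥ v) = B u v

variable (S : Sympl B)
include S

/-- Coordinates in a symplectic basis. -/
theorem four_expand (h4 : Fintype.card ι = 4) {a b e f : ι → F} (hab : B a b = 1) (hae : B a e = 0)
    (haf : B a f = 0) (hbe : B b e = 0) (hbf : B b f = 0) (hef : B e f = 1) (u : ι → F) :
    u = B b u • a + B a u • b + B f u • e + B e u • f := by
  have hba : B b a = 1 := by rw [S.symm, hab]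
  have hea : B e a = 0 := by rw [S.symm, hae]
  have hfa : B f a = 0 := by rw [S.symm, haf]
  have heb : B e b = 0 := by rw [S.symm, hbe]
  have hfb : B f b = 0 := by rw [S.symm, hbf]
  have hfe : B f e = 1 := by rw [S.symm, hef]
  let Φ : (Fin 4 → F) →ₗ[F] (ι → F) := Fintype.linearCombination F ![a, b, e, f]
  have hΦ : ∀ c, Φ c = c 0 • a + c 1 • b + c 2 • e + c 3 • f := fun c => by
    simp [Φ, Fintype.linearCombination_apply, Fin.sum_univ_four]
  have hinj : Function.Injective Φ := by
    intro c d h
    rw [hΦ, hΦ] at h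
    have h0 := congrArg (B b) h
    have h1 := congrArg (B a) h
    have h2 := congrArg (B f) h
    have h3 := congrArg (B e) h
    simp only [map_add, map_smul, smul_eq_mul, S.self, hab, hae, haf, hba, hbe, hbf, hea, heb, hef,
      hfa, hfb, hfe, mul_zero, mul_one, add_zero, zero_add] at h0 h1 h2 h3
    funext i
    fin_cases i <;> assumption
  have hsurj : Function.Surjective Φ := (LinearMap.injective_iff_surjective_of_finrank_eq_finrank
    (by simp [h4])).1 hinj
  obtain ⟨c, rfl⟩ := hsurj u
  rw [hΦ]
  simp only [map_add, map_smul, smul_eq_mul, S.self, hab, hae, haf, hba, hbe, hbf, hea, heb, hef,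
    hfa, hfb, hfe, mul_zero, mul_one, add_zero, zero_add]

/-- Two orthogonal independent vectors lie in a symplectic basis. -/
theorem exists_four (h4 : Fintype.card ι = 4) {a e : ι → F} (ha : a ≠ 0) (hae : B a e = 0)
    (hind : ∀ c : F, e ≠ c • a) :
    ∃ b f, B a b = 1 ∧ B b e = 0 ∧ B a f = 0 ∧ B e f = 1 ∧
      ∀ u, u = B b u • a + B a u • b + B f u • e + B e u • f := by
  have hae' : ∀ c : F, a ≠ c • e := fun c h => by
    by_cases hc : c = 0
    · exact ha (by rw [h, hc, zero_smul])
    · exact hind c⁻¹ (by rw [h, inv_smul_smul₀ hc])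
  obtain ⟨b, heb, hab⟩ := exists_sep S hae'
  obtain ⟨f, haf, hef⟩ := exists_sep S hind
  set f' := f + B b f • a with hf'
  have hba : B b a = 1 := by rw [S.symm, hab]
  have haf' : B a f' = 0 := by simp [hf', haf, S.self]
  have hef' : B e f' = 1 := by simp [hf', hef, S.symm e a, hae]
  have hbf' : B b f' = 0 := by simp [hf', hba, CharTwo.add_self_eq_zero]
  have hbe : B b e = 0 := by rw [S.symm, heb]
  exact ⟨b, f', hab, hbe, haf', hef', four_expand S h4 hab hae haf' hbe hbf' hef'⟩

theorem el_fix_vec {a v x : ι → F} (h : B a v = 0) (t : F) (hx : B a x = 0) (hx' : B v x = 0) :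
    (el B a v t).val *ᵥ x = x := by
  rw [el_act S h, hx, hx']
  simp

theorem long_act (a x : ι → F) (t : F) : (el B a 0 t).val *ᵥ x = x + (t * B a x) • a := by
  rw [el_act S (map_zero _)]
  simp

theorem long_add (a : ι → F) (s t : F) : el B a 0 s * el B a 0 t = el B a 0 (s + t) := by
  rw [el_mul S (map_zero _) (map_zero _)]
  simp

theorem el_split {a v : ι → F} (h : B a v = 0) (t : F) : el B a v t = el B a v 0 * el B a 0 t := by
  rw [el_mul S h (map_zero _)]
  simp

theorem el_smul_base (k : F) {a v : ι → F} (h : B a v = 0) (t : F) :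
    el B (k • a) v t = el B a (k • v) (k ^ 2 * t) := by
  refine gl_ext fun x => ?_
  rw [el_act S (by simp [h]), el_act S (by simp [h])]
  simp only [map_smul, LinearMap.smul_apply, smul_eq_mul]
  match_scalars <;> ring

theorem el_swap {a v : ι → F} (h : B a v = 0) : el B a v (0 : F) = el B v a 0 := by
  refine gl_ext fun x => ?_
  rw [el_act S h, el_act S (by rw [S.symm, h])]
  module

/-- A long root element at a combination. -/
theorem long_sum {x e : ι → F} (h : B x e = 0) (c t : F) :
    el B (e + c • x) 0 t = el B x ((c * t) • e) (c ^ 2 * t) * el B e 0 t := by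
  refine gl_ext fun y => ?_
  rw [mul_act, long_act S, long_act S, el_act S (by simp [h])]
  simp only [map_add, map_smul, LinearMap.add_apply, LinearMap.smul_apply, smul_eq_mul, h, S.self]
  match_scalars <;> ring

/-- The product of the three short root elements of a triangle is a long root element. -/
theorem triangle_mem {L : Subgroup (GL ι F)} {x e f : ι → F} (hxe : B x e = 0) (hxf : B x f = 0)
    (hef : B e f = 1) {s r : F} (h1 : el B x (s • e) r ∈ L) (h2 : el B x (s • f) r ∈ L)
    (h3 : el B x (s • (e + f)) r ∈ L) : el B x 0 (r + s ^ 2) ∈ L := by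
  have h := mul_mem (mul_mem h1 h2) h3
  rw [el_mul S (by simp [hxe]) (by simp [hxf]), el_mul S (by simp [hxe, hxf]) (by simp [hxe, hxf]),
    ← smul_add, vadd_self] at h
  simp only [map_smul, LinearMap.smul_apply, smul_eq_mul, hef, mul_one, map_add, LinearMap.add_apply,
    S.self, S.symm f e, zero_add, mul_zero, add_zero, CharTwo.add_self_eq_zero] at h
  convert h using 2
  ring

omit S in
theorem Pres.conj_el (S : Sympl B) {g : GL ι F} (hg : Pres B g) {L : Subgroup (GL ι F)} (hgL : g ∈ L)
    {a v : ι → F} (h : B a v = 0) {t : F} (hm : el B a v t ∈ L) :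
    el B (g.val *ᵥ a) (g.val *ᵥ v) t ∈ L := by
  rw [← el_conj S hg h]
  exact mul_mem (mul_mem hgL hm) (inv_mem hgL)

/-- The transvections generate the isometries. -/
theorem pres_mem_of_transvections {L : Subgroup (GL ι F)} (hall : ∀ z c, el B z 0 c ∈ L) {g : GL ι F}
    (hg : Pres B g) : g ∈ L := by
  have hA : B.IsAlt := S.self
  have hB : B.Nondegenerate := ⟨fun v hv => S.nondeg v fun u => by rw [S.symm]; exact hv u, S.nondeg⟩
  have hmem : Symp.glEquiv ι F g ∈ Symp.iso B := hg
  rw [Symp.iso_eq_T hB hA] at hmem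
  have hle : Symp.T hA ⊥ ≤ L.map (Symp.glEquiv ι F).toMonoidHom := by
    rw [Symp.T, Subgroup.closure_le]
    rintro _ ⟨v, -, c, rfl⟩
    refine ⟨el B v 0 c, hall v c, LinearEquiv.ext fun x => ?_⟩
    show Symp.glEquiv ι F (el B v 0 c) x = _
    rw [Symp.glEquiv_apply, long_act S, Symp.tv_apply, S.symm x v]
  obtain ⟨k, hk, e⟩ := hle hmem
  rwa [← (Symp.glEquiv ι F).injective e]

end Cfsg.Lib.Linear.TransvX
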