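import Cfsg.Agent.Lib.Linear.TransvX.Quadric
import Cfsg.Agent.Lib.Linear.OrthSpinor

/-!
# The group of a frame is the orthogonal group or its parity subgroup
-/

set_option autoImplicit false
set_option linter.unusedSectionVars false

namespace Cfsg.Lib.Linear.TransvX

open Module
open scoped Matrix
open Cfsg.Lib.Linear.Orth (gl_ext mul_act inv_act act_inv mem_iso rGL rGL_act rGL_mem rGL_sq rGL_inv rGL_conj
  rGL_smul rGL_fix fixSpace mem_fixSpace fixSpace_flip rI refl_induction dblHom dblHom_act dblHom_mem dblQ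
  exists_sqrt_two Space)

variable {ι : Type} [Fintype ι] [DecidableEq ι] {F : Type*} [Field F]

/-! ### Parity of the fixed space -/

theorem finrank_fix_dbl (g : GL ι F) :
    finrank F (fixSpace (dblHom g)) = finrank F (fixSpace g) + Fintype.card ι := by
  let e : fixSpace (dblHom g) ≃ₗ[F] fixSpace g × (ι → F) :=
    { toFun := fun v => (⟨v.1 ∘ Sum.inl, mem_fixSpace.2 (by
        rw [← (dblHom_act g v.1).1, mem_fixSpace.1 v.2])⟩, v.1 ∘ Sum.inr)
      map_add' := fun _ _ => rfl
      map_smul' := fun _ _ => rfl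
      invFun := fun p => ⟨Sum.elim p.1.1 p.2, mem_fixSpace.2 (funext fun i => by
        rcases i with i | i
        · refine (congrFun (dblHom_act g _).1 i).trans ?_
          rw [Sum.elim_comp_inl, mem_fixSpace.1 p.1.2, Sum.elim_inl]
        · exact congrFun (dblHom_act g _).2 i)⟩
      left_inv := fun v => Subtype.ext (Sum.elim_comp_inl_inr v.1)
      right_inv := fun p => by simp }
  rw [e.finrank_eq, finrank_prod, finrank_fintype_fun_eq_card]

/-- The parity of the fixed space is additive. -/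
theorem par_mul [Fintype F] {Q : (ι → F) → F} {B : LinearMap.BilinForm F (ι → F)} (C : Space Q B)
    (h2 : (2 : F) = 0) (hι : Fintype.card ι ≠ 2) {g k : GL ι F} (hg : g ∈ isometryGroup F Q)
    (hk : k ∈ isometryGroup F Q) :
    (finrank F (fixSpace (g * k)) + finrank F (fixSpace g) + finrank F (fixSpace k) + Fintype.card ι) % 2 = 0 := by
  have C2 := C.dbl
  have key : ∀ G : ↥(isometryGroup F (dblQ Q)), ∀ K : ↥(isometryGroup F (dblQ Q)),
      (finrank F (fixSpace ((G * K : ↥(isometryGroup F (dblQ Q))) : GL (ι ⊕ ι) F)) +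
        finrank F (fixSpace (G : GL (ι ⊕ ι) F)) + finrank F (fixSpace (K : GL (ι ⊕ ι) F)) +
        Fintype.card (ι ⊕ ι)) % 2 = 0 := by
    intro G
    refine refl_induction C2 (Or.inr (by rw [Fintype.card_sum]; omega))
      (fun G => ∀ K : ↥(isometryGroup F (dblQ Q)),
      (finrank F (fixSpace ((G * K : ↥(isometryGroup F (dblQ Q))) : GL (ι ⊕ ι) F)) +
        finrank F (fixSpace (G : GL (ι ⊕ ι) F)) + finrank F (fixSpace (K : GL (ι ⊕ ι) F)) +
        Fintype.card (ι ⊕ ι)) % 2 = 0) (fun K => ?_) (fun v hv G ih K => ?_) G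
    · have h1 : fixSpace (((1 : ↥(isometryGroup F (dblQ Q))) : GL (ι ⊕ ι) F)) = ⊤ :=
        eq_top_iff.2 fun x _ => mem_fixSpace.2 (by simp)
      rw [one_mul, h1, finrank_top, finrank_fintype_fun_eq_card]
      omega
    · have a1 : (finrank F (fixSpace (G : GL (ι ⊕ ι) F)) +
          finrank F (fixSpace ((rI C2 v hv * G : ↥(isometryGroup F (dblQ Q))) : GL (ι ⊕ ι) F))) % 2 = 1 :=
        fixSpace_flip C2 h2 G.2 hv
      have a2 : (finrank F (fixSpace ((G * K : ↥(isometryGroup F (dblQ Q))) : GL (ι ⊕ ι) F)) +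
          finrank F (fixSpace ((rI C2 v hv * (G * K) : ↥(isometryGroup F (dblQ Q))) : GL (ι ⊕ ι) F))) % 2 = 1 :=
        fixSpace_flip C2 h2 (G * K).2 hv
      have a3 := ih K
      rw [mul_assoc (rI C2 v hv)]
      omega
  have h : (finrank F (fixSpace (dblHom (g * k))) + finrank F (fixSpace (dblHom g)) +
      finrank F (fixSpace (dblHom k)) + Fintype.card (ι ⊕ ι)) % 2 = 0 := by
    rw [map_mul]
    exact key ⟨_, dblHom_mem hg⟩ ⟨_, dblHom_mem hk⟩
  rw [finrank_fix_dbl, finrank_fix_dbl, finrank_fix_dbl, Fintype.card_sum] at h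
  omega

theorem rank_fix (g : GL ι F) : (g.val - 1).rank + finrank F (fixSpace g) = Fintype.card ι := by
  have e : Matrix.mulVecLin (g.val - 1) = Matrix.mulVecLin g.val - LinearMap.id :=
    LinearMap.ext fun x => by simp [Matrix.sub_mulVec]
  rw [Matrix.rank, e, fixSpace, LinearMap.finrank_range_add_finrank_ker, finrank_fintype_fun_eq_card]

theorem two_elems [Fintype F] (hF : Fintype.card F = 2) (x : F) : x = 0 ∨ x = 1 := by
  classical
  by_contra hno
  push Not at hno
  have := Finset.card_le_univ ({0, 1, x} : Finset F)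
  rw [hF, Finset.card_insert_of_notMem (by simp [hno.1.symm]), Finset.card_pair hno.2.symm] at this
  omega

variable [CharP F 2] [Fintype F] {B : LinearMap.BilinForm F (ι → F)} {L : Subgroup (GL ι F)} {a b : ι → F}
  (P : QFrame B L a a b)
include P

theorem QFrame.space : Space (qfun B L a b) B where
  smul := P.qfun_smul
  polar u v := by
    rw [QuadraticMap.polar, P.qfun_add]
    ring
  nondeg := P.noT.sympl.nondeg

theorem QFrame.le_iso {g : GL ι F} (hg : g ∈ L) : g ∈ isometryGroup F (qfun B L a b) := by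
  refine mem_iso.2 fun u => ?_
  let W : Submodule F (ι → F) :=
    { carrier := {u | qfun B L a b (g.val *ᵥ u) = qfun B L a b u}
      add_mem' := fun {u v} hu hv => by
        simp only [Set.mem_ofPred_eq] at hu hv ⊢
        rw [Matrix.mulVec_add, P.qfun_add, P.qfun_add, hu, hv, P.noT.ctx.pres g hg]
      zero_mem' := by simp [Set.mem_ofPred_eq, Matrix.mulVec_zero]
      smul_mem' := fun c u hu => by
        simp only [Set.mem_ofPred_eq] at hu ⊢
        rw [Matrix.mulVec_smul, P.qfun_smul, P.qfun_smul, hu] }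
  have hD : ∀ d, InD L a d → d ∈ W := fun d hd => by
    show qfun B L a b (g.val *ᵥ d) = qfun B L a b d
    rw [P.qfun_eq_zero hd, P.qfun_eq_zero (hd.act hg)]
  rcases P.noT.ctx.irr (Submodule.span F {d | InD L a d}) (fun k hk w hw => by
    induction hw using Submodule.span_induction with
    | mem x hx => exact Submodule.subset_span (InD.act hx hk)
    | zero => rw [Matrix.mulVec_zero]; exact zero_mem _
    | add x y _ _ hx hy => rw [Matrix.mulVec_add]; exact add_mem hx hy
    | smul c x _ hx => rw [Matrix.mulVec_smul]; exact Submodule.smul_mem _ c hx) with h | h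
  · exact absurd ((Submodule.mem_bot F).1 (h ▸ Submodule.subset_span (InD.self P.noT.ctx))) P.noT.ne
  · exact (Submodule.span_le.2 hD : _ ≤ W) (h ▸ Submodule.mem_top : u ∈ Submodule.span F {d | InD L a d})

/-- The singular vectors form the orbit. -/
theorem QFrame.sing_inD {u : ι → F} (hu : qfun B L a b u = 0) (hu0 : u ≠ 0) : InD L a u := by
  by_contra hno
  refine hu0 (eq_zero_of_invariant P.noT.ctx P.noT.ne (fun u => qfun B L a b u = 0 ∧ ¬ InD L a u)
    (fun g hg u h => ⟨by rw [mem_iso.1 (P.le_iso hg), h.1], fun h' => h.2 (h'.of_act hg)⟩) (fun u h => ?_)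
    ⟨hu, hno⟩)
  by_contra hγ
  obtain ⟨w, hw, e⟩ := exists_vec P.noT.sympl P.pair u
  obtain ⟨h1, h2⟩ := h
  rw [e, P.qfun_vec hw] at h1
  refine h2 ?_
  have := (P.orbit (hw.smul (B a u)⁻¹)).smul hγ
  rw [smul_vec, mul_one, smul_inv_smul₀ hγ, P.quad hw] at this
  rw [e]
  convert this using 2
  field_simp
  linear_combination h1 - phi B L a w * (CharTwo.two_eq_zero (R := F))

theorem QFrame.sieg_mem {x v : ι → F} (hx : qfun B L a b x = 0) (hx0 : x ≠ 0) (hv : B x v = 0) :
    el B x v (qfun B L a b v) ∈ L := by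
  have S := P.noT.sympl
  have hd := P.sing_inD hx hx0
  have hm := phi_mem P.noT hd hv
  obtain ⟨y, hy⟩ : ∃ y, B x y ≠ 0 := by
    by_contra hno
    push Not at hno
    exact hx0 (S.nondeg x fun u => by rw [S.symm]; exact hno u)
  have h := mem_iso.1 (P.le_iso hm) y
  rw [el_act S hv, P.qfun_add, P.qfun_add, P.qfun_smul, P.qfun_smul, hx] at h
  simp only [map_add, map_smul, LinearMap.add_apply, LinearMap.smul_apply, smul_eq_mul, S.symm y x, S.symm y v,
    S.symm v x, hv, mul_zero, zero_add, add_zero] at h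
  have e : B x y ^ 2 * (qfun B L a b v + phi B L x v) = 0 := by
    linear_combination h - B x y * B v y * (CharTwo.two_eq_zero (R := F))
  rwa [CharTwo.add_eq_zero.1 ((mul_eq_zero.1 e).resolve_left (pow_ne_zero 2 hy))]

/-- Two reflections at orthogonal vectors of norm one. -/
theorem QFrame.pair_mem {v z : ι → F} (hv : qfun B L a b v = 1) (hz : qfun B L a b z = 1) (h : B v z = 0) :
    rGL (qfun B L a b) z * rGL (qfun B L a b) v ∈ L := by
  have S := P.noT.sympl
  have C := P.space
  rcases eq_or_ne z v with rfl | hne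
  · rw [rGL_sq C (by rw [hz]; exact one_ne_zero)]; exact one_mem L
  have hind : ∀ c : F, z ≠ c • v := fun c e => by
    have h1 := hz
    rw [e, P.qfun_smul, hv, mul_one] at h1
    have : (c + 1) ^ 2 = 0 := by rw [CharTwo.add_sq, h1, one_pow, CharTwo.add_self_eq_zero]
    rw [CharTwo.add_eq_zero.1 (pow_eq_zero_iff two_ne_zero |>.1 this), one_smul] at e
    exact hne e
  obtain ⟨x₀, hvx₀, hzx₀⟩ := exists_sep S hind
  set x := x₀ + qfun B L a b x₀ • (v + z) with hxdef
  have hzx : B z x = 1 := by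
    rw [hxdef, map_add, hzx₀, map_smul, map_add, S.symm z v, h, S.self, add_zero, smul_zero, add_zero]
  have hvx : B v x = 0 := by
    rw [hxdef, map_add, hvx₀, map_smul, map_add, S.self, h, add_zero, smul_zero, add_zero]
  have hQx : qfun B L a b x = 0 := by
    rw [hxdef, P.qfun_add, P.qfun_smul, P.qfun_add, hv, hz, h, map_smul, map_add, S.symm x₀ v, S.symm x₀ z,
      hvx₀, hzx₀, smul_eq_mul]
    linear_combination (qfun B L a b x₀ + qfun B L a b x₀ ^ 2) * (CharTwo.two_eq_zero (R := F))
  set y := z + x with hydef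
  have hQy : qfun B L a b y = 0 := by
    rw [hydef, P.qfun_add, hz, hQx, hzx, add_zero, CharTwo.add_self_eq_zero]
  have hxy : B x y = 1 := by rw [hydef, map_add, S.symm x z, hzx, S.self, add_zero]
  have hvy : B v y = 0 := by rw [hydef, map_add, h, hvx, add_zero]
  have hx0 : x ≠ 0 := fun e => by rw [e, map_zero] at hzx; exact zero_ne_one hzx
  have hy0 : y ≠ 0 := fun e => by rw [e, map_zero] at hxy; exact zero_ne_one hxy
  have hxv : B x v = 0 := by rw [S.symm]; exact hvx
  have hyv : B y v = 0 := by rw [S.symm]; exact hvy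
  have m1 := P.sieg_mem hQx hx0 hxv
  have m2 := P.sieg_mem hQy hy0 hyv
  rw [hv] at m1 m2
  clear_value y
  clear_value x
  have hv0 : qfun B L a b v ≠ 0 := by rw [hv]; exact one_ne_zero
  have hzy : z = x + y := by rw [hydef, add_comm z, ← add_assoc, vadd_self, zero_add]
  have hz' : qfun B L a b (x + y) = 1 := by rw [← hzy]; exact hz
  have hz0 : qfun B L a b (x + y) ≠ 0 := by rw [hz']; exact one_ne_zero
  have e : el B x v 1 * el B y v 1 * el B x v 1 = rGL (qfun B L a b) z * rGL (qfun B L a b) v := by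
    refine gl_ext fun p => ?_
    rw [mul_act, mul_act, mul_act, el_act S hxv, el_act S hyv, el_act S hxv, hzy,
      rGL_act C hv0, rGL_act C hz0, hv, hz']
    simp only [map_add, map_sub, map_smul, LinearMap.add_apply, smul_eq_mul, S.self, hxv, hyv, hvx, hvy, hxy,
      S.symm y x, inv_one, one_mul, CharTwo.sub_eq_add]
    have h3 : (3 : F) = 1 := by linear_combination CharTwo.two_eq_zero (R := F)
    have h4 : (4 : F) = 0 := by linear_combination (2 : F) * CharTwo.two_eq_zero (R := F)
    match_scalars <;> ring_nf <;> (try simp [CharTwo.two_eq_zero, h3, h4, CharTwo.neg_eq, CharTwo.sub_eq_add]) <;> (try ring_nf) <;>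
      (try simp [CharTwo.two_eq_zero, h3, h4, CharTwo.neg_eq, CharTwo.sub_eq_add])
  rw [← e]
  exact mul_mem (mul_mem m1 m2) m1

variable (hd : 4 ≤ Fintype.card ι)
include hd

/-- Any two reflections differ by an element of the group. -/
theorem QFrame.refl_pair {v z : ι → F} (hv : qfun B L a b v ≠ 0) (hz : qfun B L a b z ≠ 0) :
    rGL (qfun B L a b) z * rGL (qfun B L a b) v ∈ L := by
  have S := P.noT.sympl
  have C := P.space
  have h2 : (2 : F) = 0 := CharTwo.two_eq_zero
  have norm : ∀ {v : ι → F}, qfun B L a b v ≠ 0 →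
      ∃ v', qfun B L a b v' = 1 ∧ rGL (qfun B L a b) v' = rGL (qfun B L a b) v := fun {v} hv => by
    obtain ⟨s, hs⟩ := exists_sqrt_two h2 (qfun B L a b v)⁻¹
    have hs0 : s ≠ 0 := fun e => inv_ne_zero hv (by rw [← hs, e, zero_pow two_ne_zero])
    exact ⟨s • v, by rw [P.qfun_smul, hs, inv_mul_cancel₀ hv], rGL_smul C hv hs0⟩
  obtain ⟨v₁, hv₁, e₁⟩ := norm hv
  obtain ⟨z₁, hz₁, e₂⟩ := norm hz
  rw [← e₁, ← e₂]
  let f : (ι → F) →ₗ[F] F × F := (B v₁).prod (B z₁)
  obtain ⟨w, hw, hwn⟩ : ∃ w ∈ LinearMap.ker f, qfun B L a b w ≠ 0 := by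
    by_contra hno
    push Not at hno
    have hK : Fintype.card ι ≤ finrank F (LinearMap.ker f) + 2 := by
      have h1 := LinearMap.finrank_range_add_finrank_ker f
      have h2' := Submodule.finrank_le (LinearMap.range f)
      rw [finrank_fintype_fun_eq_card] at h1
      rw [finrank_prod, finrank_self] at h2'
      omega
    have hker : ∀ k ∈ LinearMap.ker f, B v₁ k = 0 := fun k hk => congrArg Prod.fst (LinearMap.mem_ker.1 hk)
    generalize LinearMap.ker f = K at hno hK hker
    set U := K ⊔ Submodule.span F {v₁}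
    have hle : LinearMap.range (B.domRestrict U) ≤ K.dualAnnihilator := by
      rintro _ ⟨⟨u, hu⟩, rfl⟩
      rw [Submodule.mem_dualAnnihilator]
      intro k hk
      show B u k = 0
      obtain ⟨p, hp, r, hr, rfl⟩ := Submodule.mem_sup.1 hu
      obtain ⟨c, rfl⟩ := Submodule.mem_span_singleton.1 hr
      have hkv : B v₁ k = 0 := hker k hk
      have hpk : B p k = 0 := by
        have h' := hno _ (K.add_mem hp hk)
        rw [P.qfun_add, hno p hp, hno k hk, zero_add, zero_add] at h'
        exact h'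
      rw [map_add, LinearMap.add_apply, hpk, map_smul, LinearMap.smul_apply, hkv, smul_zero, add_zero]
    have hinj : Function.Injective (B.domRestrict U) := (injective_iff_map_eq_zero _).2 fun p hp =>
      Subtype.ext (C.nondeg' fun u => LinearMap.congr_fun hp u)
    have h1 : finrank F U ≤ finrank F K.dualAnnihilator := by
      rw [← LinearMap.finrank_range_of_inj hinj]
      exact Submodule.finrank_mono hle
    have h3 : finrank F K + finrank F K.dualAnnihilator = Fintype.card ι :=
      (Subspace.finrank_add_finrank_dualAnnihilator_eq K).trans (finrank_fintype_fun_eq_card F)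
    have hlt : K < U := lt_of_le_of_ne le_sup_left fun e => by
      have : v₁ ∈ K := e ▸ Submodule.mem_sup_right (Submodule.mem_span_singleton_self v₁)
      exact one_ne_zero (hv₁.symm.trans (hno v₁ this))
    have h4 := Submodule.finrank_lt_finrank_of_lt hlt
    omega
  obtain ⟨w₁, hw₁, e₃⟩ := norm hwn
  obtain ⟨s, hs⟩ := exists_sqrt_two h2 (qfun B L a b w)⁻¹
  have hwa : B v₁ w = 0 := congrArg Prod.fst (LinearMap.mem_ker.1 hw)
  have hwb : B z₁ w = 0 := congrArg Prod.snd (LinearMap.mem_ker.1 hw)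
  have hw1 : B v₁ (s • w) = 0 ∧ B z₁ (s • w) = 0 :=
    ⟨by rw [map_smul, hwa, smul_zero], by rw [map_smul, hwb, smul_zero]⟩
  have hsw : qfun B L a b (s • w) = 1 := by rw [P.qfun_smul, hs, inv_mul_cancel₀ hwn]
  have m1 := P.pair_mem hsw hz₁ (by rw [S.symm]; exact hw1.2)
  have m2 := P.pair_mem hv₁ hsw hw1.1
  have := mul_mem m1 m2
  rwa [mul_assoc, ← mul_assoc (rGL (qfun B L a b) (s • w)), rGL_sq C (by rw [hsw]; exact one_ne_zero),
    one_mul] at this

/-- Membership against parity. -/
def Par (L : Subgroup (GL ι F)) (r g : GL ι F) : Prop :=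
  (g ∈ L ∧ Even (finrank F (fixSpace g))) ∨ (r * g ∈ L ∧ ¬ Even (finrank F (fixSpace g)))

theorem QFrame.par_refl {v₀ v : ι → F} (h₀ : qfun B L a b v₀ ≠ 0) (hv : qfun B L a b v ≠ 0) {g : GL ι F}
    (hgO : g ∈ isometryGroup F (qfun B L a b)) (hg : Par L (rGL (qfun B L a b) v₀) g) :
    Par L (rGL (qfun B L a b) v₀) (rGL (qfun B L a b) v * g) := by
  have C := P.space
  have hfl := fixSpace_flip C CharTwo.two_eq_zero hgO hv
  rw [Par, Nat.even_iff, ← mul_assoc]
  rcases hg with ⟨hm, he⟩ | ⟨hm, he⟩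
  · rw [Nat.even_iff] at he
    exact Or.inr ⟨mul_mem (P.refl_pair hd hv h₀) hm, by omega⟩
  · rw [Nat.even_iff] at he
    refine Or.inl ⟨?_, by omega⟩
    have := mul_mem (P.refl_pair hd h₀ hv) hm
    rwa [mul_assoc, ← mul_assoc (rGL (qfun B L a b) v₀), rGL_sq C h₀, one_mul] at this

/-- A Siegel element of the frame can be cancelled. -/
theorem QFrame.par_left {v₀ : ι → F} (h₀ : qfun B L a b v₀ ≠ 0) (hev : Even (Fintype.card ι)) {k g : GL ι F}
    (hk : k ∈ L) (hke : Even (finrank F (fixSpace k))) (hgO : g ∈ isometryGroup F (qfun B L a b))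
    (hg : Par L (rGL (qfun B L a b) v₀) g) : Par L (rGL (qfun B L a b) v₀) (k * g) := by
  have C := P.space
  have hp := par_mul C CharTwo.two_eq_zero (by omega) (P.le_iso hk) hgO
  rw [Nat.even_iff] at hke hev
  rw [Par, Nat.even_iff]
  rcases hg with ⟨hm, he⟩ | ⟨hm, he⟩
  · rw [Nat.even_iff] at he
    exact Or.inl ⟨mul_mem hk hm, by omega⟩
  · rw [Nat.even_iff] at he
    refine Or.inr ⟨?_, by omega⟩
    have hc : rGL (qfun B L a b) v₀ * rGL (qfun B L a b) (k.val *ᵥ v₀) ∈ L :=
      P.refl_pair hd (by rwa [mem_iso.1 (P.le_iso hk)]) h₀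
    rw [← rGL_conj C h₀ (P.le_iso hk)] at hc
    have h3 := mul_mem (mul_mem hc hk) hm
    simpa only [mul_assoc, inv_mul_cancel_left, ← mul_assoc (rGL (qfun B L a b) v₀) (rGL (qfun B L a b) v₀),
      rGL_sq C h₀, one_mul] using h3

section Small

variable (hF : Fintype.card F = 2) (hι : Fintype.card ι = 4)
include hF hι

/-- The orthogonal space of the frame is a plane of four vectors. -/
theorem QFrame.plane {x y : ι → F} (hx : InW B a b x) (hy : InW B a b y) (hx0 : x ≠ 0) (hy0 : y ≠ 0)
    (hne : x ≠ y) : B x y = 1 := by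
  classical
  have S := P.noT.sympl
  have hF' := two_elems hF
  refine (hF' _).resolve_left fun h => ?_
  obtain ⟨u, hu, h1⟩ := exists_dualW S P.pair hx hx0
  let f : F × ({v // InW B a b v}) × F → (ι → F) := fun p => vec a b p.1 p.2.1.1 p.2.2
  have hinj : Function.Injective f := fun p p' e => by
    simp only [f] at e
    have e1 := congrArg (B a) e
    rw [co_left S P.pair p.2.1.2, co_left S P.pair p'.2.1.2] at e1
    have e2 := congrArg (B b) e
    rw [co_right S P.pair p.2.1.2, co_right S P.pair p'.2.1.2] at e2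
    rw [e1, e2] at e
    simp only [vec] at e
    exact Prod.ext e1 (Prod.ext (Subtype.ext (add_left_cancel (add_right_cancel e))) e2)
  have hle := Nat.card_le_card_of_injective f hinj
  rw [Nat.card_prod, Nat.card_prod, Nat.card_fun, Nat.card_eq_fintype_card (α := F),
    Nat.card_eq_fintype_card (α := ι), hF, hι] at hle
  let g : Fin 5 → {v // InW B a b v} :=
    ![⟨0, InW.zero S⟩, ⟨x, hx⟩, ⟨y, hy⟩, ⟨x + y, hx.add hy⟩, ⟨u, hu⟩]
  have hxy0 : x + y ≠ 0 := fun e => hne (eq_of_vadd e)
  have hu' : ∀ w, B x w = 0 → w ≠ u := fun w hw e => by rw [e, h1] at hw; exact one_ne_zero hw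
  have k1 := hu' 0 (map_zero _)
  have k2 := hu' x (S.self x)
  have k3 := hu' y h
  have k4 := hu' (x + y) (by rw [map_add, S.self, h, add_zero])
  have k5 : x ≠ x + y := fun e => hy0 (by simpa using e.symm)
  have k6 : y ≠ x + y := fun e => hx0 (by simpa using e.symm)
  have hg : Function.Injective g := by
    intro i j e
    have e' := congrArg Subtype.val e
    fin_cases i <;> fin_cases j <;> first | rfl | (exfalso; simp [g] at e'; grind)
  have := Nat.card_le_card_of_injective g hg
  rw [Nat.card_fin] at this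
  omega

/-- Fixing the pair, everything is a product of reflections. -/
theorem QFrame.par_fix {v₀ : ι → F} (h₀ : qfun B L a b v₀ ≠ 0)
    (h1 : Par L (rGL (qfun B L a b) v₀) (1 : GL ι F)) {h : GL ι F} (hO : h ∈ isometryGroup F (qfun B L a b))
    (ha : h.val *ᵥ a = a) (hb : h.val *ᵥ b = b) : Par L (rGL (qfun B L a b) v₀) h := by
  have S := P.noT.sympl
  have C := P.space
  have step : ∀ {h : GL ι F}, h ∈ isometryGroup F (qfun B L a b) → h.val *ᵥ a = a → h.val *ᵥ b = b →
      ∀ x, InW B a b x →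
      (∀ k : GL ι F, k ∈ isometryGroup F (qfun B L a b) → k.val *ᵥ a = a → k.val *ᵥ b = b → k.val *ᵥ x = x →
        (∀ p, h.val *ᵥ p = p → k.val *ᵥ p = p) → Par L (rGL (qfun B L a b) v₀) k) →
      Par L (rGL (qfun B L a b) v₀) h := by
    intro h hO ha hb x hx cont
    by_cases hfx : h.val *ᵥ x = x
    · exact cont h hO ha hb hfx fun p hp => hp
    have hx0 : x ≠ 0 := fun e => hfx (by rw [e, Matrix.mulVec_zero])
    have hhx : InW B a b (h.val *ᵥ x) := by
      refine ⟨?_, ?_⟩
      · conv_lhs => rw [← ha]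
        rw [C.B_act hO, hx.1]
      · conv_lhs => rw [← hb]
        rw [C.B_act hO, hx.2]
    have hBxh := P.plane hd hF hι hx hhx hx0 (Orth.act_ne_zero hx0) (Ne.symm hfx)
    set z := x + h.val *ᵥ x with hz
    have hQz : qfun B L a b z = 1 := by
      rw [hz, P.qfun_add, mem_iso.1 hO, CharTwo.add_self_eq_zero, zero_add, hBxh]
    have hz0 : qfun B L a b z ≠ 0 := by rw [hQz]; exact one_ne_zero
    have hkeep : ∀ p, h.val *ᵥ p = p → (rGL (qfun B L a b) z * h).val *ᵥ p = p := fun p hp => by
      rw [mul_act, hp, rGL_fix C hz0]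
      have e : B (h.val *ᵥ x) p = B x p := by
        conv_lhs => rw [← hp]
        exact C.B_act hO x p
      rw [hz, map_add, LinearMap.add_apply, e, CharTwo.add_self_eq_zero]
    have hkx : (rGL (qfun B L a b) z * h).val *ᵥ x = x := by
      rw [mul_act, rGL_act C hz0, hQz, inv_one, one_mul, hz, map_add, LinearMap.add_apply, hBxh, S.self,
        add_zero, one_smul, sub_eq_iff_eq_add, ← add_assoc, vadd_self, zero_add]
    have hk := cont _ (mul_mem (rGL_mem C hz0) hO) (hkeep a ha) (hkeep b hb) hkx hkeep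
    have := P.par_refl hd h₀ hz0 (mul_mem (rGL_mem C hz0) hO) hk
    rwa [← mul_assoc, rGL_sq C hz0, one_mul] at this
  obtain ⟨v, hv, hv0⟩ := exists_W_ne S P.pair P.noT.dim
  obtain ⟨w, hw, hvw⟩ := exists_dualW S P.pair hv hv0
  refine step hO ha hb v hv fun k hkO hka hkb hkv _ => step hkO hka hkb w hw fun k' hk'O hk'a hk'b hk'w keep => ?_
  have hk'v := keep v hkv
  suffices k' = 1 by rw [this]; exact h1
  refine gl_ext fun p => ?_
  rw [Units.val_one, Matrix.one_mulVec]
  obtain ⟨p', hp', e⟩ := exists_vec S P.pair p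
  set y := p' + B w p' • v + B v p' • w with hy
  have hyW : InW B a b y := (hp'.add (hv.smul _)).add (hw.smul _)
  have hvy : B v y = 0 := by
    rw [hy, map_add, map_add, map_smul, map_smul, S.self, hvw, smul_zero, add_zero, smul_eq_mul, mul_one,
      CharTwo.add_self_eq_zero]
  have hy0 : y = 0 := by
    by_contra hne
    have hyv : v ≠ y := fun e' => by
      have h2 : B w y = 0 := by
        rw [hy, map_add, map_add, map_smul, map_smul, S.self, S.symm w v, hvw, smul_zero, add_zero, smul_eq_mul,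
          mul_one, CharTwo.add_self_eq_zero]
      rw [← e', S.symm, hvw] at h2
      exact one_ne_zero h2
    rw [P.plane hd hF hι hv hyW hv0 hne hyv] at hvy
    exact one_ne_zero hvy
  have hp'e : p' = B w p' • v + B v p' • w := eq_of_vadd (by rw [← add_assoc]; exact hy0)
  rw [e, hp'e]
  simp only [vec, Matrix.mulVec_add, Matrix.mulVec_smul, hk'a, hk'b, hk'v, hk'w]

end Small

/-- A Siegel element off its point has a fixed space of codimension two. -/
theorem QFrame.el_fix {x v : ι → F} (hxv : B x v = 0) (hind : ∀ c : F, v ≠ c • x) (hx0 : x ≠ 0) (t : F) :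
    finrank F (fixSpace (el B x v t)) + 2 = Fintype.card ι := by
  have S := P.noT.sympl
  let f : (ι → F) →ₗ[F] F × F := (B x).prod (B v)
  have hker : fixSpace (el B x v t) = LinearMap.ker f := by
    ext p
    rw [mem_fixSpace, el_act S hxv, LinearMap.mem_ker, add_assoc, add_eq_left]
    constructor
    · intro e
      have h0 : B x p = 0 := by
        by_contra hne
        refine hind ((B x p)⁻¹ * (B v p + t * B x p)) ?_
        rw [mul_smul, ← eq_of_vadd e, inv_smul_smul₀ hne]
      rw [h0, zero_smul, zero_add, mul_zero, add_zero, smul_eq_zero] at e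
      exact Prod.ext h0 (e.resolve_right hx0)
    · intro e
      rw [show B x p = 0 from congrArg Prod.fst e, show B v p = 0 from congrArg Prod.snd e]
      simp
  have hsurj : LinearMap.range f = ⊤ := by
    refine LinearMap.range_eq_top.2 fun cd => ?_
    obtain ⟨p₁, h1, h1'⟩ := exists_sep S hind
    obtain ⟨p₀, -, h0⟩ := exists_sep S (d := 0) (u := x) (fun c => by simpa using hx0)
    exact ⟨cd.1 • p₀ + (cd.2 + cd.1 * B v p₀) • p₁, Prod.ext (by simp [f, h0, h1]) (by
      simp [f, h1']
      linear_combination (cd.1 * B v p₀) * (CharTwo.two_eq_zero (R := F)))⟩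
  have h := LinearMap.finrank_range_add_finrank_ker f
  rw [hsurj, finrank_top, finrank_prod, finrank_self, finrank_fintype_fun_eq_card, ← hker] at h
  omega

/-- Every isometry is in the group or differs from it by a reflection, according to parity. -/
theorem QFrame.par_all (hev : Even (Fintype.card ι)) {v₀ : ι → F} (h₀ : qfun B L a b v₀ ≠ 0) {g : GL ι F}
    (hg : g ∈ isometryGroup F (qfun B L a b)) : Par L (rGL (qfun B L a b) v₀) g := by
  have C := P.space
  have S := P.noT.sympl
  have hone : Par L (rGL (qfun B L a b) v₀) (1 : GL ι F) := by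
    refine Or.inl ⟨one_mem L, ?_⟩
    rw [show fixSpace (1 : GL ι F) = ⊤ from eq_top_iff.2 fun x _ => mem_fixSpace.2 (by simp), finrank_top,
      finrank_fintype_fun_eq_card]
    exact hev
  by_cases hgen : Fintype.card F ≠ 2 ∨ Fintype.card ι ≠ 4
  · exact refl_induction C hgen (fun g => Par L (rGL (qfun B L a b) v₀) (g : GL ι F)) hone
      (fun v hv g ih => P.par_refl hd h₀ hv g.2 ih) ⟨g, hg⟩
  push Not at hgen
  obtain ⟨hF, hι⟩ := hgen
  have hF' := two_elems hF
  -- cancelling Siegel elements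
  have red : ∀ {x v : ι → F} {g : GL ι F}, qfun B L a b x = 0 → x ≠ 0 → B x v = 0 → (∀ c : F, v ≠ c • x) ∨ v = 0 →
      g ∈ isometryGroup F (qfun B L a b) →
      Par L (rGL (qfun B L a b) v₀) (el B x v (qfun B L a b v) * g) → Par L (rGL (qfun B L a b) v₀) g := by
    intro x v g hx hx0 hxv hv hgO hk
    rcases hv with hv | rfl
    · have hm := P.sieg_mem hx hx0 hxv
      have he : Even (finrank F (fixSpace (el B x v (qfun B L a b v)))) := by
        rw [Nat.even_iff] at hev ⊢
        have := P.el_fix hd hxv hv hx0 (qfun B L a b v)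
        omega
      have := P.par_left hd h₀ hev hm he (mul_mem (P.le_iso hm) hgO) hk
      rwa [← mul_assoc, el_sq S hxv, one_mul] at this
    · rwa [C.zero, el_zero S, one_mul] at hk
  have hQa : qfun B L a b a = 0 := P.qfun_eq_zero P.left
  have hQb : qfun B L a b b = 0 := P.qfun_eq_zero P.right
  have hb0 : b ≠ 0 := P.right.ne_zero P.noT.ne
  have hQW : ∀ {w}, InW B a b w → qfun B L a b w = phi B L a w := fun {w} hw => by
    have := P.qfun_vec hw 0 0
    rwa [vec, zero_smul, zero_add, zero_smul, add_zero, zero_mul, zero_add] at this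
  have hindW : ∀ {w}, InW B a b w → (∀ c : F, w ≠ c • a) ∨ w = 0 := fun {w} hw => by
    refine or_iff_not_imp_right.2 fun hw0 c e => hw0 ?_
    have h' := hw.2
    rw [e, map_smul, S.symm, P.pair, smul_eq_mul, mul_one] at h'
    rw [e, h', zero_smul]
  have hindW' : ∀ {w}, InW B a b w → (∀ c : F, w ≠ c • b) ∨ w = 0 := fun {w} hw => by
    refine or_iff_not_imp_right.2 fun hw0 c e => hw0 ?_
    have h' := hw.1
    rw [e, map_smul, P.pair, smul_eq_mul, mul_one] at h'
    rw [e, h', zero_smul]
  have hvec : ∀ {g : GL ι F}, g ∈ isometryGroup F (qfun B L a b) → ∀ {w γ α}, InW B a b w →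
      g.val *ᵥ a = vec a b γ w α ∨ g.val *ᵥ b = vec a b γ w α → γ * α + qfun B L a b w = 0 := by
    intro g hgO w γ α hw e
    rw [hQW hw, ← P.qfun_vec hw γ α]
    rcases e with e | e <;> rw [← e, mem_iso.1 hgO] <;> assumption
  -- fixing the point
  have stB : ∀ {g : GL ι F}, g ∈ isometryGroup F (qfun B L a b) → g.val *ᵥ a = a →
      Par L (rGL (qfun B L a b) v₀) g := by
    intro g hgO hga
    obtain ⟨w, hw, e⟩ := exists_vec S P.pair (g.val *ᵥ b)
    have hγ : B a (g.val *ᵥ b) = 1 := by
      conv_lhs => rw [← hga]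
      rw [C.B_act hgO, P.pair]
    rw [hγ] at e
    generalize B b (g.val *ᵥ b) = α at e
    have hQ := hvec hgO hw (Or.inr e)
    rw [one_mul] at hQ
    refine red hQa P.noT.ne hw.1 (hindW hw) hgO (P.par_fix hd hF hι h₀ hone
      (mul_mem (P.le_iso (P.sieg_mem hQa P.noT.ne hw.1)) hgO) ?_ ?_)
    · rw [mul_act, hga, el_act S hw.1, S.self, S.symm w a, hw.1]
      simp
    · rw [mul_act, e, el_vec S P.pair hw hw, one_smul, vadd_self, S.self, add_zero, mul_one, hQ, vec, one_smul,
        add_zero, zero_smul, add_zero]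
  -- moving the point
  have stC : ∀ {g : GL ι F}, g ∈ isometryGroup F (qfun B L a b) → B a (g.val *ᵥ a) = 1 →
      Par L (rGL (qfun B L a b) v₀) g := by
    intro g hgO hγ
    obtain ⟨w, hw, e⟩ := exists_vec S P.pair (g.val *ᵥ a)
    rw [hγ] at e
    generalize B b (g.val *ᵥ a) = α at e
    have hQ := hvec hgO hw (Or.inl e)
    rw [one_mul] at hQ
    obtain ⟨v, hv, hφ⟩ := (rootFun P.noT P.left).surj S P.pair P.noT.dim 1
    rw [← hQW hv] at hφ
    have o1 := mul_mem (P.le_iso (P.sieg_mem hQa P.noT.ne hw.1)) hgO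
    have o2 := mul_mem (P.le_iso (P.sieg_mem hQa P.noT.ne hv.1)) o1
    have o3 := mul_mem (P.le_iso (P.sieg_mem hQb hb0 hv.2)) o2
    refine red hQa P.noT.ne hw.1 (hindW hw) hgO (red hQa P.noT.ne hv.1 (hindW hv) o1
      (red hQb hb0 hv.2 (hindW' hv) o2 (stB o3 ?_)))
    rw [mul_act, mul_act, mul_act, e, el_vec S P.pair hw hw, one_smul, vadd_self, S.self, add_zero, mul_one, hQ,
      el_vec S P.pair hv (InW.zero S), map_zero, one_smul, zero_add, zero_add, mul_one, hφ,
      el_vec' S P.pair hv hv]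
    simp [vec, S.self, vadd_self, CharTwo.add_self_eq_zero]
  rcases hF' (B a (g.val *ᵥ a)) with hγ | hγ
  · obtain ⟨w, hw, e⟩ := exists_vec S P.pair (g.val *ᵥ a)
    rw [hγ] at e
    generalize B b (g.val *ᵥ a) = α at e
    have hQ := hvec hg hw (Or.inl e)
    rw [zero_mul, zero_add] at hQ
    by_cases hw0 : w = 0
    · refine stB hg ?_
      rcases hF' α with h | h
      · exact absurd (by rw [e, hw0, h, vec]; simp) (Orth.act_ne_zero (g := g) P.noT.ne)
      · rw [e, hw0, h, vec]; simp
    obtain ⟨w₁, hw₁, h1⟩ := exists_dualW S P.pair hw hw0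
    obtain ⟨w', hw', h1', hα⟩ : ∃ w', InW B a b w' ∧ B w' w = 1 ∧ qfun B L a b w' * α = 0 := by
      rcases hF' (qfun B L a b w₁ * α) with h | h
      · exact ⟨w₁, hw₁, by rw [S.symm]; exact h1, h⟩
      · refine ⟨w₁ + w, hw₁.add hw, by rw [map_add, LinearMap.add_apply, S.self, add_zero, S.symm]; exact h1, ?_⟩
        rw [P.qfun_add, hQ, add_zero, S.symm w₁ w, h1, add_mul, h, one_mul, (hF' α).resolve_left (fun h' => by
          rw [h', mul_zero] at h; exact zero_ne_one h), CharTwo.add_self_eq_zero]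
    refine red hQb hb0 hw'.2 (hindW' hw') hg (stC (mul_mem (P.le_iso (P.sieg_mem hQb hb0 hw'.2)) hg) ?_)
    rw [mul_act, e, el_vec' S P.pair hw' hw, co_left S P.pair (hw.add (hw'.smul α)), zero_add, h1', hα, add_zero]
  · exact stC hg hγ

/-- The group is the isometry group or its parity subgroup. -/
theorem QFrame.orth_or_even (hev : Even (Fintype.card ι)) :
    L = isometryGroup F (qfun B L a b) ∨
      ∀ g : GL ι F, g ∈ L ↔ g ∈ isometryGroup F (qfun B L a b) ∧ Even (g.val - 1).rank := by
  have C := P.space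
  obtain ⟨v, hv, hφ⟩ := (rootFun P.noT P.left).surj P.noT.sympl P.pair P.noT.dim 1
  have h₀ : qfun B L a b v ≠ 0 := by
    have := P.qfun_vec hv 0 0
    rw [vec, zero_smul, zero_add, zero_smul, add_zero, zero_mul, zero_add, hφ] at this
    rw [this]; exact one_ne_zero
  by_cases hr : rGL (qfun B L a b) v ∈ L
  · refine Or.inl (le_antisymm (fun g hg => P.le_iso hg) fun g hg => ?_)
    rcases P.par_all hd hev h₀ hg with ⟨h, -⟩ | ⟨h, -⟩
    · exact h
    · exact (Subgroup.mul_mem_cancel_left L hr).1 h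
  · refine Or.inr fun g => ?_
    have hiff : Even (g.val - 1).rank ↔ Even (finrank F (fixSpace g)) := by
      rw [← rank_fix g, Nat.even_add] at hev
      exact hev
    rw [hiff]
    refine ⟨fun hg => ⟨P.le_iso hg, ?_⟩, fun ⟨hgO, he⟩ => ?_⟩
    · rcases P.par_all hd hev h₀ (P.le_iso hg) with ⟨-, he⟩ | ⟨h, -⟩
      · exact he
      · exact absurd ((Subgroup.mul_mem_cancel_right L hg).1 h) hr
    · rcases P.par_all hd hev h₀ hgO with ⟨h, -⟩ | ⟨-, he'⟩
      · exact h
      · exact absurd he he'

end Cfsg.Lib.Linear.TransvX
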