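import Cfsg.Agent.Lib.Linear.TransvX.FourBasic
import Cfsg.Agent.Lib.Linear.TransvX.Orth

/-!
# The symplectic group over a quadratic overfield in dimension four, characteristic two
-/

set_option autoImplicit false
set_option linter.unusedSectionVars false

namespace Cfsg.Lib.Linear.TransvX

open Module
open scoped Matrix
open Cfsg.Lib.Linear.Orth (gl_ext mul_act inv_act act_inv mem_iso exists_sqrt_two)

variable {ι : Type} [Fintype ι] [DecidableEq ι] {F : Type*} [Field F] [CharP F 2]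
  {B : LinearMap.BilinForm F (ι → F)}

/-- A self-adjoint quadratic field. -/
structure KOp (B : LinearMap.BilinForm F (ι → F)) (T : Matrix ι ι F) (t N : F) : Prop where
  sympl : Sympl B
  card : Fintype.card ι = 4
  sq : ∀ v, T *ᵥ (T *ᵥ v) = t • T *ᵥ v + N • v
  adj : ∀ u v, B (T *ᵥ u) v = B u (T *ᵥ v)
  line : ∀ v, B v (T *ᵥ v) = 0
  free : ∀ v, v ≠ 0 → ∀ c : F, T *ᵥ v ≠ c • v

variable {T : Matrix ι ι F} {t N : F} (K : KOp B T t N)
include K

theorem KOp.t_ne [Finite F] : t ≠ 0 := by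
  haveI := Fintype.ofFinite F
  intro ht
  have S := K.sympl
  haveI : Nonempty ι := Fintype.card_pos_iff.1 (by rw [K.card]; norm_num)
  obtain ⟨i⟩ := ‹Nonempty ι›
  have hv : (Pi.single i 1 : ι → F) ≠ 0 := by simp
  obtain ⟨s, hs⟩ := exists_sqrt_two (CharTwo.two_eq_zero (R := F)) N
  set v : ι → F := Pi.single i 1
  set w := T *ᵥ v + s • v with hw
  have hw0 : w ≠ 0 := fun h => K.free v hv s (eq_of_vadd h)
  refine K.free w hw0 s ?_
  rw [hw, Matrix.mulVec_add, Matrix.mulVec_smul, K.sq, ht, ← hs, smul_add, smul_smul]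
  match_scalars <;> ring

/-- An element of the field group. -/
theorem KOp.el_comm (v : ι → F) (s : F) (x : ι → F) :
    (el B v (s • T *ᵥ v) (s * t)).val *ᵥ (T *ᵥ x) = T *ᵥ ((el B v (s • T *ᵥ v) (s * t)).val *ᵥ x) := by
  have S := K.sympl
  have hv : B v (s • T *ᵥ v) = 0 := by simp [K.line]
  rw [el_act S hv, el_act S hv, Matrix.mulVec_add, Matrix.mulVec_add, Matrix.mulVec_smul, Matrix.mulVec_smul,
    Matrix.mulVec_smul, K.sq]
  simp only [map_smul, LinearMap.smul_apply, smul_eq_mul, ← K.adj v x, K.adj (T *ᵥ v) x,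
    K.adj v (T *ᵥ x), K.sq, map_add]
  match_scalars <;> ring_nf <;> simp [CharTwo.two_eq_zero]

theorem KOp.el_pres (v : ι → F) (s : F) : Pres B (el B v (s • T *ᵥ v) (s * t)) :=
  el_preserves K.sympl (by simp [K.line]) _

/-- The independence of a vector and its image. -/
theorem KOp.indep {a : ι → F} (ha : a ≠ 0) : (∀ c : F, T *ᵥ a ≠ c • a) ∧ T *ᵥ a ≠ 0 :=
  ⟨K.free a ha, fun h => K.free a ha 0 (by rw [h, zero_smul])⟩

/-- The group over the overfield: what the arguments use. -/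
def KOp.Below (_ : KOp B T t N) (L : Subgroup (GL ι F)) : Prop :=
  ∀ v s, el B v (s • T *ᵥ v) (s * t) ∈ L

variable {L : Subgroup (GL ι F)} (hL : ∀ g ∈ L, Pres B g) (hN : K.Below L)
include hL hN

theorem KOp.irr : Irr B L := by
  have S := K.sympl
  refine ⟨S, hL, fun W hW => or_iff_not_imp_left.2 fun hW0 => ?_⟩
  obtain ⟨w, hw, hw0⟩ := Submodule.exists_mem_ne_zero_of_ne_bot hW0
  have key : ∀ w, w ∈ W → w ≠ 0 → ∀ v, B v w = 0 → v ∈ W := by
    intro w hw hw0
    have hin : ∀ v, B v w = 0 → B v (T *ᵥ w) ≠ 0 → v ∈ W := fun v hv hv' => by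
      have h1 := W.sub_mem (hW _ (hN v 1) w hw) hw
      rw [el_act S (by simp [K.line]), hv] at h1
      simp only [zero_smul, add_zero, mul_zero, one_smul, K.adj, add_sub_cancel_left] at h1
      have h2 := W.smul_mem (B v (T *ᵥ w))⁻¹ h1
      rwa [inv_smul_smul₀ hv'] at h2
    obtain ⟨y, hy, hy'⟩ := exists_sep S (K.indep hw0).1
    rw [S.symm] at hy
    rw [S.symm] at hy'
    intro v hv
    by_cases hv' : B v (T *ᵥ w) = 0
    · have := W.sub_mem (hin (v + y) (by simp [hv, hy]) (by simp [hv', hy'])) (hin y hy (by simp [hy']))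
      rwa [add_sub_cancel_right] at this
    · exact hin v hv hv'
  have hT : T *ᵥ w ∈ W := key w hw hw0 _ (by rw [K.adj, K.line])
  refine eq_top_iff.2 fun v _ => ?_
  obtain ⟨y, hy, hy'⟩ := exists_sep S (K.indep hw0).1
  rw [S.symm] at hy
  rw [S.symm] at hy'
  have h1 : v + B v (T *ᵥ w) • y ∈ W := key _ hT (K.indep hw0).2 _ (by simp [hy', CharTwo.add_self_eq_zero])
  have h2 : y ∈ W := key w hw hw0 y hy
  have := W.sub_mem h1 (W.smul_mem (B v (T *ᵥ w)) h2)
  rwa [add_sub_cancel_right] at this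

/-- If some stabiliser moves a line over the field then the group is everything. -/
theorem KOp.full_of_moved [Fintype F] (hq : 3 ≤ Fintype.card F) {a : ι → F} (ha : a ≠ 0) {h : GL ι F} (hh : h ∈ L)
    (hha : h.val *ᵥ a = a) (hmove : ∀ c d : F, h.val *ᵥ (T *ᵥ a) ≠ c • a + d • T *ᵥ a) :
    ∀ g, Pres B g → g ∈ L := by
  have S := K.sympl
  set e := T *ᵥ a with he
  set y := h.val *ᵥ e with hy
  have hae : B a e = 0 := K.line a
  have hay : B a y = 0 := by
    have := hL h hh a e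
    rwa [hha, hae] at this
  obtain ⟨b, f, hab, hbe, haf, hef, hexp⟩ := exists_four S K.card ha hae (K.indep ha).1
  have hey : B e y ≠ 0 := fun h0 => hmove (B b y) (B f y) (by
    conv_lhs => rw [hexp y]
    rw [hay, h0]
    simp)
  -- the root elements
  have m1 : ∀ s : F, el B a (s • e) (s * t) ∈ L := fun s => hN a s
  have m2 : ∀ s : F, el B a (s • y) (s * t) ∈ L := fun s => by
    have := Pres.conj_el S (hL h hh) hh (by simp [hae]) (m1 s)
    rwa [hha, Matrix.mulVec_smul] at this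
  let c₂ : (ι → F) → F := fun v => B e v * (B e y)⁻¹
  let c₁ : (ι → F) → F := fun v => B f (v + c₂ v • y)
  have hdec : ∀ v, B a v = 0 → v = B b (v + c₂ v • y) • a + c₁ v • e + c₂ v • y := fun v hv => by
    have h1 := hexp (v + c₂ v • y)
    rw [show B a (v + c₂ v • y) = 0 by simp [hv, hay], show B e (v + c₂ v • y) = 0 by
      simp [c₂, hey, CharTwo.add_self_eq_zero]] at h1
    rw [zero_smul, zero_smul, add_zero, add_zero] at h1
    rw [← h1, add_assoc, vadd_self, add_zero]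
  let φ : (ι → F) → F := fun v => c₁ v * t + c₂ v * t + c₁ v * c₂ v * B e y
  have hφ : RootFun B L a φ := by
    refine ⟨fun v hv => ?_, fun u v hu hv => ?_⟩
    · have hm := mul_mem (m1 (c₁ v)) (m2 (c₂ v))
      rw [el_mul S (by simp [hae]) (by simp [hay])] at hm
      have hv' : B a (c₁ v • e + c₂ v • y) = 0 := by simp [hae, hay]
      rw [← el_add_self S hv' (B b (v + c₂ v • y))] at hm
      convert hm using 2
      · conv_lhs => rw [hdec v hv]
        abel
      · simp [φ, mul_comm, mul_left_comm]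
    · have h1 : c₂ (u + v) = c₂ u + c₂ v := by simp [c₂, add_mul]
      have h2 : c₁ (u + v) = c₁ u + c₁ v := by simp [c₁, h1, add_mul]; ring
      have hB : B u v = (c₁ u * c₂ v + c₁ v * c₂ u) * B e y := by
        conv_lhs => rw [hdec u hu, hdec v hv]
        simp only [map_add, map_smul, LinearMap.add_apply, LinearMap.smul_apply, smul_eq_mul, S.self,
          S.symm e a, S.symm y a, S.symm y e, hae, hay]
        ring
      simp only [φ, h1, h2, hB]
      ring
  rcases trichotomy (K.irr hL hN) ha (by rw [K.card]) (by rw [K.card]; exact ⟨2, rfl⟩) hφ with hall | ⟨b', P⟩ | ⟨h0, -⟩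
  · exact fun g => pres_mem_of_transvections S hall
  · exfalso
    have hz : ∀ v, v ≠ 0 → qfun B L a b' v = 0 := fun v hv => by
      set w := T *ᵥ v
      have hvw : B v w = 0 := K.line v
      obtain ⟨x, hvx, hwx⟩ := exists_sep S (d := v) (u := w) (K.indep hv).1
      have hm : el B v w t ∈ L := by simpa [w] using hN v 1
      have h1 := mem_iso.1 (P.le_iso hm) x
      rw [el_act S hvw, hvx, hwx] at h1
      simp only [zero_smul, add_zero, mul_zero, one_smul] at h1
      rw [P.space.add, S.symm x v, hvx, add_zero] at h1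
      simpa using h1
    obtain ⟨b₀, hb₀⟩ : ∃ b₀, B a b₀ = 1 := ⟨b, hab⟩
    have hb0 : b₀ ≠ 0 := fun h => by simp [h] at hb₀
    have hab0 : a + b₀ ≠ 0 := fun h => by
      have := congrArg (B a) h
      simp [S.self, hb₀] at this
    have := P.space.add a b₀
    rw [hz a ha, hz b₀ hb0, hz _ hab0, hb₀] at this
    simp at this
  · omega

/-- The group normalises the field, or is everything. -/
theorem KOp.dichotomy [Fintype F] (hq : 3 ≤ Fintype.card F) :
    (∀ g ∈ L, ∃ α β : F, ∀ x, (g⁻¹ : GL ι F).val *ᵥ (T *ᵥ (g.val *ᵥ x)) = α • x + β • T *ᵥ x) ∨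
      ∀ g, Pres B g → g ∈ L := by
  classical
  have S := K.sympl
  by_cases hcase : ∃ a : ι → F, a ≠ 0 ∧ ∃ h ∈ L, h.val *ᵥ a = a ∧
      ∀ c d : F, h.val *ᵥ (T *ᵥ a) ≠ c • a + d • T *ᵥ a
  · obtain ⟨a, ha, h, hh, hha, hmove⟩ := hcase
    exact Or.inr (K.full_of_moved hL hN hq ha hh hha hmove)
  push Not at hcase
  refine Or.inl fun g hg => ?_
  -- each line over the field goes to a line over the field
  have hline : ∀ a, a ≠ 0 → ∃ c d : F, g.val *ᵥ (T *ᵥ a) = c • g.val *ᵥ a + d • T *ᵥ (g.val *ᵥ a) := by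
    intro a ha
    set a' := g.val *ᵥ a with ha'
    set y := g.val *ᵥ (T *ᵥ a) with hy
    have ha0 : a' ≠ 0 := Lib.Linear.Orth.act_ne_zero ha
    have hay : B a' y = 0 := by rw [hL g hg, K.line]
    obtain ⟨b, f, hab, hbe, haf, hef, hexp⟩ := exists_four S K.card ha0 (K.line a') (K.indep ha0).1
    by_cases hey : B (T *ᵥ a') y = 0
    · refine ⟨B b y, B f y, ?_⟩
      conv_lhs => rw [hexp y]
      rw [hay, hey]
      simp
    exfalso
    have hy' : B y (t • y + N • a') = 0 := by simp [S.self, S.symm y a', hay]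
    have hm : el B y (t • y + N • a') t ∈ L := by
      have h1 : el B (T *ᵥ a) (T *ᵥ (T *ᵥ a)) t ∈ L := by simpa using hN (T *ᵥ a) 1
      have h2 := Pres.conj_el S (hL g hg) hg (K.line (T *ᵥ a)) h1
      rwa [K.sq, Matrix.mulVec_add, Matrix.mulVec_smul, Matrix.mulVec_smul] at h2
    have hfix : (el B y (t • y + N • a') t).val *ᵥ a' = a' :=
      el_fix_vec S hy' t (by rw [S.symm, hay]) (by simp [S.self, S.symm y a', hay])
    obtain ⟨c, d, hcd⟩ := hcase a' ha0 _ hm hfix
    rw [el_act S hy'] at hcd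
    have h3 := congrArg (B (T *ᵥ a')) hcd
    simp only [map_add, map_smul, LinearMap.add_apply, LinearMap.smul_apply, smul_eq_mul, S.self,
      S.symm (T *ᵥ a') a', K.line, S.symm y (T *ᵥ a'), mul_zero, add_zero, zero_add] at h3
    have h4 : t * B (T *ᵥ a') y ^ 2 = 0 := by
      linear_combination h3 - t * B (T *ᵥ a') y ^ 2 * (CharTwo.two_eq_zero (R := F))
    rcases mul_eq_zero.1 h4 with h | h
    · exact K.t_ne h
    · exact hey (pow_eq_zero_iff two_ne_zero |>.1 h)
  set T' : (ι → F) →ₗ[F] (ι → F) :=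
    Matrix.toLin' ((g⁻¹ : GL ι F).val * T * g.val) with hT'
  have hT'x : ∀ x, T' x = (g⁻¹ : GL ι F).val *ᵥ (T *ᵥ (g.val *ᵥ x)) := fun x => by
    simp [hT', Matrix.mulVec_mulVec, mul_assoc]
  have hloc : ∀ a, ∃ c d : F, T' a = c • a + d • T *ᵥ a := by
    intro a
    by_cases ha : a = 0
    · exact ⟨0, 0, by simp [ha]⟩
    obtain ⟨c, d, hcd⟩ := hline a ha
    have hd : d ≠ 0 := fun hd => by
      rw [hd, zero_smul, add_zero, ← Matrix.mulVec_smul] at hcd
      exact K.free a ha c (Lib.Linear.Orth.act_injective g hcd)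
    refine ⟨d⁻¹ * c, d⁻¹, ?_⟩
    have e : T *ᵥ (g.val *ᵥ a) = g.val *ᵥ (d⁻¹ • T *ᵥ a + (d⁻¹ * c) • a) := by
      rw [Matrix.mulVec_add, Matrix.mulVec_smul, Matrix.mulVec_smul, hcd]
      match_scalars <;> field_simp <;> ring_nf <;> simp [CharTwo.two_eq_zero]
    rw [hT'x, e, inv_act, add_comm]
  choose α β hαβ using hloc
  -- independence over the field
  have huniq : ∀ a b, a ≠ 0 → (∀ c d : F, b ≠ c • a + d • T *ᵥ a) → ∀ c1 c2 c3 c4 : F,
      c1 • a + c2 • T *ᵥ a + (c3 • b + c4 • T *ᵥ b) = 0 → c1 = 0 ∧ c2 = 0 ∧ c3 = 0 ∧ c4 = 0 := by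
    intro a b ha hab c1 c2 c3 c4 h
    have h34 : c3 = 0 ∧ c4 = 0 := by
      by_contra hne
      have hb : b ≠ 0 := fun hb => hab 0 0 (by simp [hb])
      set D := c3 ^ 2 + t * c3 * c4 + N * c4 ^ 2 with hDdef
      have hD : D ≠ 0 := by
        intro hD
        by_cases hc : c4 = 0
        · refine hne ⟨?_, hc⟩
          simpa [hDdef, hc] using hD
        refine K.free (c3 • b + c4 • T *ᵥ b) (fun h0 => K.free b hb (c4⁻¹ * c3) ?_) (t + c4⁻¹ * c3) ?_
        · have h0' : T *ᵥ b + (c4⁻¹ * c3) • b = 0 := by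
            have := congrArg (fun z => c4⁻¹ • z) h0
            simpa [smul_add, smul_smul, hc, add_comm] using this
          exact eq_of_vadd h0'
        · rw [Matrix.mulVec_add, Matrix.mulVec_smul, Matrix.mulVec_smul, K.sq]
          match_scalars
          · field_simp
            ring
          · field_simp
            linear_combination -hD + c4 ^ 2 * N * (CharTwo.two_eq_zero (R := F))
      -- invert
      have hk := congrArg (fun z => D⁻¹ • ((c3 + c4 * t) • z + c4 • T *ᵥ z)) h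
      simp only [Matrix.mulVec_add, Matrix.mulVec_smul, K.sq, Matrix.mulVec_zero, smul_zero, add_zero] at hk
      refine hab (D⁻¹ * ((c3 + c4 * t) * c1 + c4 * c2 * N)) (D⁻¹ * ((c3 + c4 * t) * c2 + c4 * c1 + c4 * c2 * t)) ?_
      refine (eq_of_vadd ?_).symm
      rw [← hk]
      match_scalars <;> field_simp <;> ring_nf <;> simp [CharTwo.two_eq_zero, hDdef] <;> ring
    obtain ⟨rfl, rfl⟩ := h34
    simp only [zero_smul, add_zero] at h
    by_cases hc : c2 = 0
    · subst hc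
      simp only [zero_smul, add_zero, smul_eq_zero] at h
      exact ⟨h.resolve_right ha, rfl, rfl, rfl⟩
    · refine absurd ?_ (K.free a ha (c2⁻¹ * c1))
      refine eq_of_vadd ?_
      have := congrArg (fun z => c2⁻¹ • z) h
      simpa [smul_add, smul_smul, hc, add_comm] using this
  have hsame : ∀ a b, a ≠ 0 → (∀ c d : F, b ≠ c • a + d • T *ᵥ a) → α b = α a ∧ β b = β a := by
    intro a b ha hab
    have h1 := map_add T' a b
    rw [hαβ, hαβ, hαβ, Matrix.mulVec_add] at h1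
    have h2 := huniq a b ha hab (α (a + b) + α a) (β (a + b) + β a) (α (a + b) + α b) (β (a + b) + β b) (by
      rw [← vadd_self (α (a + b) • (a + b) + β (a + b) • (T *ᵥ a + T *ᵥ b))]
      nth_rewrite 2 [h1]
      module)
    obtain ⟨e1, e2, e3, e4⟩ := h2
    exact ⟨(CharTwo.add_eq_zero.1 e3).symm.trans (CharTwo.add_eq_zero.1 e1),
      (CharTwo.add_eq_zero.1 e4).symm.trans (CharTwo.add_eq_zero.1 e2)⟩
  obtain ⟨i⟩ : Nonempty ι := Fintype.card_pos_iff.1 (by rw [K.card]; norm_num)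
  set a₀ : ι → F := Pi.single i 1
  have ha₀ : a₀ ≠ 0 := by simp [a₀]
  obtain ⟨b₀, hb₀⟩ : ∃ b₀, ∀ c d : F, b₀ ≠ c • a₀ + d • T *ᵥ a₀ := by
    obtain ⟨b, f, hab, hbe, haf, hef, -⟩ := exists_four S K.card ha₀ (K.line a₀) (K.indep ha₀).1
    refine ⟨b, fun c d e => ?_⟩
    rw [e] at hab
    simp [S.self, K.line] at hab
  refine ⟨α a₀, β a₀, fun x => ?_⟩
  rw [← hT'x, hαβ]
  by_cases hx : x = 0
  · simp [hx]
  by_cases hx₀ : ∀ c d : F, x ≠ c • a₀ + d • T *ᵥ a₀
  · obtain ⟨e1, e2⟩ := hsame a₀ x ha₀ hx₀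
    rw [e1, e2]
  push Not at hx₀
  obtain ⟨c, d, hcd⟩ := hx₀
  have hbx : ∀ c' d' : F, x ≠ c' • b₀ + d' • T *ᵥ b₀ := fun c' d' e => by
    obtain ⟨e1, e2, e3, e4⟩ := huniq a₀ b₀ ha₀ hb₀ c d c' d' (by rw [← hcd, ← e, vadd_self])
    exact hx (by rw [hcd, e1, e2]; simp)
  have hb0 : b₀ ≠ 0 := fun e => hb₀ 0 0 (by simp [e])
  obtain ⟨e1, e2⟩ := hsame b₀ x hb0 hbx
  obtain ⟨e3, e4⟩ := hsame a₀ b₀ ha₀ hb₀
  rw [e1, e2, e3, e4]

end Cfsg.Lib.Linear.TransvX
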