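import Cfsg.Agent.Lib.Linear.TransvX.FourBasic
import Cfsg.Agent.Lib.Linear.TransvX.Orth

/-!
# Maximality of the isometry group of a quadratic form in the symplectic group of its polar form
-/

set_option autoImplicit false
set_option linter.unusedSectionVars false

namespace Cfsg.Lib.Linear.TransvX

open Module
open scoped Matrix
open Cfsg.Lib.Linear.Orth (gl_ext mul_act inv_act act_inv Space mem_iso exists_sqrt_two)

variable {ι : Type} [Fintype ι] [DecidableEq ι] {F : Type*} [Field F] [CharP F 2]
  {B : LinearMap.BilinForm F (ι → F)} {Q : (ι → F) → F}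

theorem sympl_of_space (C : Space Q B) : Sympl B :=
  ⟨fun v => by rw [C.self, CharTwo.two_eq_zero, zero_mul], C.nondeg⟩

/-- A root element in the isometry group. -/
theorem el_mem_orth (C : Space Q B) {a v : ι → F} (ha : Q a = 0) (hav : B a v = 0) :
    el B a v (Q v) ∈ isometryGroup F Q := by
  have S := sympl_of_space C
  refine mem_iso.2 fun x => ?_
  rw [el_act S hav, C.add, C.add, C.smul, C.smul, ha]
  simp only [map_add, map_smul, LinearMap.add_apply, LinearMap.smul_apply, smul_eq_mul, S.symm v a, hav,
    mul_zero, add_zero, S.symm x v, S.symm x a]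
  linear_combination (B a x * B v x + Q v * B a x ^ 2) * (CharTwo.two_eq_zero (R := F))

/-- The reflection at a non-singular vector. -/
theorem long_mem_orth (C : Space Q B) {v : ι → F} (hv : Q v ≠ 0) :
    el B v 0 (Q v)⁻¹ ∈ isometryGroup F Q := by
  have S := sympl_of_space C
  refine mem_iso.2 fun x => ?_
  rw [long_act S, C.add, C.smul, map_smul, smul_eq_mul, S.symm x v]
  field_simp
  linear_combination (B v x) ^ 2 * (CharTwo.two_eq_zero (R := F))

theorem exists_nonsingular_shift (C : Space Q B) (hq : 3 ≤ Nat.card F) [Finite F] {u x : ι → F}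
    (hu : Q u = 0) (hux : B u x ≠ 0) : ∃ c : F, c ≠ 0 ∧ Q (u + c • x) ≠ 0 := by
  haveI := Fintype.ofFinite F
  classical
  obtain ⟨c, -, hc⟩ : ∃ c ∈ (Finset.univ : Finset F), c ∉ ({0, B u x / Q x} : Finset F) :=
    Finset.exists_mem_notMem_of_card_lt_card (Finset.card_le_two.trans_lt (by
      rw [Finset.card_univ, ← Nat.card_eq_fintype_card]; omega))
  simp only [Finset.mem_insert, Finset.mem_singleton, not_or] at hc
  refine ⟨c, hc.1, fun h => ?_⟩
  rw [C.add, C.smul, hu, map_smul, smul_eq_mul, zero_add] at h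
  by_cases hx : Q x = 0
  · rw [hx, mul_zero, zero_add] at h
    exact mul_ne_zero hc.1 hux h
  · refine hc.2 ?_
    field_simp
    have h' : c * (c * Q x + B u x) = 0 := by linear_combination h
    have := (mul_eq_zero.1 h').resolve_left hc.1
    linear_combination this - B u x * (CharTwo.two_eq_zero (R := F))

/-- A group containing the isometry group of the quadratic form consists of isometries, or is symplectic. -/
theorem quad_overgroup [Fintype F] (C : Space Q B) (h4 : Fintype.card ι = 4) (hq : 3 ≤ Fintype.card F)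
    {L : Subgroup (GL ι F)} (hL : ∀ g ∈ L, Pres B g) (hO : isometryGroup F Q ≤ L)
    {a : ι → F} (ha : a ≠ 0) (hQa : Q a = 0) :
    (∀ g ∈ L, g ∈ isometryGroup F Q) ∨ ∀ g, Pres B g → g ∈ L := by
  have S := sympl_of_space C
  have hq' : 3 ≤ Nat.card F := by rwa [Nat.card_eq_fintype_card]
  -- non-singular vectors with non-zero product
  have hns : ∀ v w : ι → F, B v w ≠ 0 → ∃ c : F, ∃ u, Q u ≠ 0 ∧ B u w ≠ 0 ∧ v = u + c • w := by
    intro v w h
    by_cases hv : Q v = 0
    · obtain ⟨c, hc, hne⟩ := exists_nonsingular_shift C hq' hv h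
      refine ⟨c, v + c • w, hne, by simpa [S.self] using h, ?_⟩
      rw [add_assoc, vadd_self, add_zero]
    · exact ⟨0, v, hv, h, by rw [zero_smul, add_zero]⟩
  have irr : Irr B L := by
    refine ⟨S, hL, fun W hW => or_iff_not_imp_left.2 fun hW0 => ?_⟩
    obtain ⟨w, hw, hw0⟩ := Submodule.exists_mem_ne_zero_of_ne_bot hW0
    have hin : ∀ v, B v w ≠ 0 → v ∈ W := fun v hv => by
      obtain ⟨c, u, hu, huw, rfl⟩ := hns v w hv
      refine add_mem ?_ (W.smul_mem c hw)
      have h1 := W.sub_mem (hW _ (hO (long_mem_orth C hu)) w hw) hw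
      rw [long_act S, add_sub_cancel_left] at h1
      have h2 := W.smul_mem ((Q u)⁻¹ * B u w)⁻¹ h1
      rwa [inv_smul_smul₀ (mul_ne_zero (inv_ne_zero hu) huw)] at h2
    obtain ⟨y, hy⟩ : ∃ y, B y w ≠ 0 := by
      by_contra h
      push Not at h
      exact hw0 (S.nondeg w h)
    refine eq_top_iff.2 fun v _ => ?_
    by_cases hv : B v w = 0
    · have := W.sub_mem (hin (v + y) (by simpa [hv] using hy)) (hin y hy)
      rwa [add_sub_cancel_right] at this
    · exact hin v hv
  have hφ : RootFun B L a Q := ⟨fun v hv => hO (el_mem_orth C hQa hv), fun u v _ _ => C.add u v⟩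
  rcases trichotomy irr ha (by omega) (by rw [h4]; exact ⟨2, rfl⟩) hφ with hall | ⟨b, P⟩ | ⟨h, -⟩
  · exact Or.inr fun g => pres_mem_of_transvections S hall
  · refine Or.inl fun g hg => ?_
    set Q' := qfun B L a b with hQ'
    have hzero : ∀ v, Q v ≠ 0 → Q' v = Q v := fun v hv => by
      obtain ⟨x, hx⟩ : ∃ x, B v x ≠ 0 := by
        by_contra h
        push Not at h
        exact hv (by rw [S.nondeg v fun u => by rw [S.symm]; exact h u, C.zero])
      have h1 := mem_iso.1 (P.le_iso (hO (long_mem_orth C hv))) x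
      rw [long_act S, P.space.add, P.space.smul, map_smul, smul_eq_mul, S.symm x v] at h1
      field_simp at h1
      have h2 : B v x ^ 2 * (Q' v + Q v) = 0 := by linear_combination h1
      exact CharTwo.add_eq_zero.1 ((mul_eq_zero.1 h2).resolve_left (pow_ne_zero 2 hx))
    have heq : ∀ v, Q' v = Q v := fun v => by
      by_cases hv : Q v = 0
      · by_cases hv0 : v = 0
        · subst hv0; rw [C.zero]; exact P.space.zero
        obtain ⟨y, hy⟩ : ∃ y, B v y ≠ 0 := by
          by_contra h
          push Not at h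
          exact hv0 (S.nondeg v fun u => by rw [S.symm]; exact h u)
        obtain ⟨c, x, hx, hxv, -⟩ := hns y v (by rwa [S.symm])
        obtain ⟨d, hd, hne⟩ := exists_nonsingular_shift C hq' hv (x := x) (by rwa [S.symm])
        have e1 := hzero _ hne
        simp only [hQ'] at e1 ⊢
        have e2 : qfun B L a b x = Q x := hzero x hx
        rw [P.space.add, P.space.smul, C.add, C.smul, e2, map_smul, smul_eq_mul] at e1
        linear_combination e1
      · exact hzero v hv
    refine mem_iso.2 fun v => ?_
    rw [← heq, ← heq]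
    exact mem_iso.1 (P.le_iso hg) v
  · omega

end Cfsg.Lib.Linear.TransvX
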