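import Cfsg.Agent.Lib.Linear.TransvX.Frame
import Cfsg.Agent.Lib.Linear.OrthFixPoint

/-!
# A transvection in the group gives all transvections
-/

set_option autoImplicit false
set_option linter.unusedSectionVars false

namespace Cfsg.Lib.Linear.TransvX

open Module
open scoped Matrix
open Cfsg.Lib.Linear.Orth (gl_ext mul_act inv_act act_inv exists_sqrt_two)

variable {ι : Type} [Fintype ι] [DecidableEq ι] {F : Type*} [Field F] [CharP F 2]
  {B : LinearMap.BilinForm F (ι → F)} {L : Subgroup (GL ι F)} {a b : ι → F}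

/-- A function giving elements of `L` in the root group at `a`. -/
structure RootFun (B : LinearMap.BilinForm F (ι → F)) (L : Subgroup (GL ι F)) (a : ι → F) (φ : (ι → F) → F) : Prop where
  mem : ∀ v, B a v = 0 → el B a v (φ v) ∈ L
  add : ∀ u v, B a u = 0 → B a v = 0 → φ (u + v) = φ u + φ v + B u v

theorem RootFun.zero {φ : (ι → F) → F} (hφ : RootFun B L a φ) (S : Sympl B) : φ 0 = 0 := by
  have h := hφ.add 0 0 (map_zero _) (map_zero _)
  rw [add_zero, S.self, add_zero, CharTwo.add_self_eq_zero] at h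
  exact h

/-- Outside a plane there is a non-zero vector. -/
theorem exists_W_ne (S : Sympl B) (hab : B a b = 1) (hd : 3 ≤ Fintype.card ι) : ∃ u, InW B a b u ∧ u ≠ 0 := by
  by_contra hno
  push Not at hno
  have hall : ∀ x, x ∈ Submodule.span F (Set.range ![a, b]) := fun x => by
    obtain ⟨w, hw, e⟩ := exists_vec S hab x
    rw [hno w hw] at e
    rw [e, vec, add_zero]
    exact add_mem (Submodule.smul_mem _ _ (Submodule.subset_span ⟨1, rfl⟩))
      (Submodule.smul_mem _ _ (Submodule.subset_span ⟨0, rfl⟩))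
  have h1 : finrank F (Submodule.span F (Set.range ![a, b])) ≤ 2 :=
    (finrank_range_le_card (R := F) ![a, b]).trans (by simp)
  rw [show Submodule.span F (Set.range ![a, b]) = ⊤ from eq_top_iff.2 fun x _ => hall x, finrank_top,
    finrank_fintype_fun_eq_card] at h1
  omega

variable [Fintype F]

/-- The root function takes every value. -/
theorem RootFun.surj {φ : (ι → F) → F} (hφ : RootFun B L a φ) (S : Sympl B) (hab : B a b = 1)
    (hd : 3 ≤ Fintype.card ι) (t : F) : ∃ v, InW B a b v ∧ φ v = t := by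
  classical
  obtain ⟨u, hu, hu0⟩ := exists_W_ne S hab hd
  have hadd : ∀ x y : F, φ ((x + y) • u) = φ (x • u) + φ (y • u) := fun x y => by
    rw [add_smul, hφ.add _ _ (hu.smul x).1 (hu.smul y).1]
    simp [S.self]
  obtain ⟨κ, hκ⟩ : ∃ κ : F, ∀ z : F, z ≠ 0 → φ (z • u) * z⁻¹ ≠ κ := by
    by_contra hno
    push Not at hno
    choose s hs0 hs using hno
    have hinj : Function.Injective fun κ : F => Units.mk0 (s κ) (hs0 κ) := fun x y e => by
      rw [← hs x, ← hs y, show s x = s y from congrArg Units.val e]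
    have := Fintype.card_le_of_injective _ hinj
    rw [Fintype.card_units] at this
    have := Fintype.card_pos (α := F)
    omega
  obtain ⟨v₁, hv₁, h1⟩ := exists_dualW S hab hu hu0
  let g : F →+ F := AddMonoidHom.mk' (fun z => φ (z • u) + z * κ) (fun x y => by simp only [hadd]; ring)
  have hinj : Function.Injective g := (injective_iff_map_eq_zero g).2 fun z hz => by
    by_contra h
    refine hκ z h ?_
    rw [show φ (z • u) = z * κ from CharTwo.add_eq_zero.1 hz]
    field_simp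
  obtain ⟨z, hz⟩ := (Finite.injective_iff_surjective.1 hinj) (t + φ (κ • v₁))
  refine ⟨κ • v₁ + z • u, (hv₁.smul κ).add (hu.smul z), ?_⟩
  have hz' : φ (z • u) + z * κ = t + φ (κ • v₁) := hz
  rw [hφ.add _ _ (hv₁.smul κ).1 (hu.smul z).1]
  simp only [map_smul, LinearMap.smul_apply, smul_eq_mul, S.symm v₁ u, h1, mul_one]
  linear_combination hz' + φ (κ • v₁) * (CharTwo.two_eq_zero (R := F))

variable (C : Irr B L) {φ : (ι → F) → F} (hφ : RootFun B L a φ) (hd : 3 ≤ Fintype.card ι)
include C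

omit [Fintype F] in
theorem tau_act (z x : ι → F) : (el B z 0 (1 : F)).val *ᵥ x = x + B z x • z := by
  rw [el_act C.sympl (map_zero _)]
  simp

omit [Fintype F] in
theorem tau_act_mem {z : ι → F} (hz : el B z 0 (1 : F) ∈ L) {g : GL ι F} (hg : g ∈ L) :
    el B (g.val *ᵥ z) 0 (1 : F) ∈ L := by
  have := mul_mem (mul_mem hg hz) (inv_mem hg)
  rwa [el_conj C.sympl (C.pres g hg) (map_zero _), Matrix.mulVec_zero] at this

omit [Fintype F] in
theorem tau_move {z z' : ι → F} (hz : el B z 0 (1 : F) ∈ L) (hz' : el B z' 0 (1 : F) ∈ L) :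
    el B (z' + B z z' • z) 0 (1 : F) ∈ L := by
  rw [← tau_act C]
  exact tau_act_mem C hz' hz

include hφ hd

section Frame

variable (hab : B a b = 1)
include hab

/-- The orbit of a pair on a hyperbolic line reaches the orthogonal space. -/
theorem reach {β α α' : F} (hβ : β ≠ 0) (hz : el B (vec a b β 0 α) 0 (1 : F) ∈ L)
    (hz' : el B (vec a b β 0 α') 0 (1 : F) ∈ L) {u : ι → F} (hu : InW B a b u) (hu0 : u ≠ 0)
    (hφu : φ (β⁻¹ • u) = β⁻¹ ^ 2 + (α + α') * β⁻¹) (x : F) :
    el B (vec a b 0 u x) 0 (1 : F) ∈ L := by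
  obtain ⟨w₁, hw₁, h1⟩ := exists_dualW C.sympl hab hu hu0
  set w := (β * x + 1) • w₁ with hwdef
  have hw : InW B a b w := hw₁.smul _
  have huw : B u w = β * x + 1 := by rw [hwdef, map_smul, smul_eq_mul, h1, mul_one]
  have hv : InW B a b (β⁻¹ • w) := hw.smul _
  have hv' : InW B a b (β⁻¹ • (w + u)) := (hw.add hu).smul _
  have h₁ := tau_act_mem C hz (hφ.mem _ hv.1)
  have h₂ := tau_act_mem C hz' (hφ.mem _ hv'.1)
  rw [el_vec C.sympl hab hv (InW.zero C.sympl), zero_add, smul_inv_smul₀ hβ, map_zero, add_zero] at h₁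
  rw [el_vec C.sympl hab hv' (InW.zero C.sympl), zero_add, smul_inv_smul₀ hβ, map_zero, add_zero] at h₂
  have hsum : φ (β⁻¹ • (w + u)) = φ (β⁻¹ • w) + φ (β⁻¹ • u) + β⁻¹ ^ 2 * (β * x + 1) := by
    rw [smul_add, hφ.add _ _ hv.1 (hu.smul _).1]
    simp only [map_smul, LinearMap.smul_apply, smul_eq_mul, C.sympl.symm w u, huw]
    ring
  rw [hsum, hφu] at h₂
  have h := tau_move C h₁ h₂
  rw [vec_pair C.sympl hab hw (hw.add hu), map_add, C.sympl.self, C.sympl.symm w u, huw] at h
  convert h using 2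
  have h4 : (4 : F) = 0 := by linear_combination (2 : F) * CharTwo.two_eq_zero (R := F)
  have h6 : (6 : F) = 0 := by linear_combination (3 : F) * CharTwo.two_eq_zero (R := F)
  simp only [vec, smul_add, smul_smul]
  match_scalars <;> field_simp <;> ring_nf <;> simp [CharTwo.two_eq_zero, h4, h6]

theorem reach_root {u : ι → F} (hu : InW B a b u) (hall : ∀ x, el B (vec a b 0 u x) 0 (1 : F) ∈ L) (k : F) :
    el B a 0 (φ (k • u) + k ^ 2) ∈ L := by
  have h0 := hall 0
  have hk := hall k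
  have hku := hu.smul k
  have e : el B (vec a b 0 u 0) 0 (1 : F) * el B (vec a b 0 u k) 0 (1 : F) = el B a (k • u) (k ^ 2) := by
    refine gl_ext fun x => ?_
    rw [mul_act, tau_act C, tau_act C, el_act C.sympl hku.1]
    simp only [vec, zero_smul, zero_add, add_zero, map_add, map_smul, LinearMap.add_apply, LinearMap.smul_apply,
      smul_eq_mul, C.sympl.self, C.sympl.symm u a, hu.1]
    match_scalars <;> ring_nf <;> simp [CharTwo.two_eq_zero]
  have h := mul_mem (hφ.mem _ hku.1) (mul_mem h0 hk)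
  rw [e, el_mul C.sympl hku.1 hku.1, vadd_self, C.sympl.self, add_zero] at h
  exact h

theorem diff_mem {β α α' : F} (hβ : β ≠ 0) (hz : el B (vec a b β 0 α) 0 (1 : F) ∈ L)
    (hz' : el B (vec a b β 0 α') 0 (1 : F) ∈ L) : el B a 0 ((α + α') * β⁻¹) ∈ L := by
  obtain ⟨v, hv, hφv⟩ := hφ.surj C.sympl hab hd (β⁻¹ ^ 2 + (α + α') * β⁻¹)
  by_cases hv0 : v = 0
  · subst hv0
    rw [hφ.zero C.sympl] at hφv
    have h := tau_move C hz hz'
    rw [vec_pair C.sympl hab (InW.zero C.sympl) (InW.zero C.sympl), map_zero, add_zero] at h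
    have hβe : β * α' + α * β = 1 := by
      have h0 : (α + α') * β⁻¹ = β⁻¹ ^ 2 := (CharTwo.add_eq_zero.1 hφv.symm).symm
      field_simp at h0
      linear_combination h0
    rw [hβe, one_smul, show vec a b β (0 : ι → F) α' + vec a b β 0 α = (α + α') • a by
      simp only [vec]; match_scalars <;> ring_nf <;> simp [CharTwo.two_eq_zero]] at h
    rw [el_zero_smul C.sympl] at h
    convert h using 2
    field_simp
    linear_combination -(α + α') * hβe
  · have h := reach_root C hφ hd hab (hv.smul β)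
      (reach C hφ hd hab hβ hz hz' (hv.smul β) (smul_ne_zero hβ hv0) (by rw [inv_smul_smul₀ hβ, hφv])) β⁻¹
    rw [inv_smul_smul₀ hβ, hφv, add_comm _ (β⁻¹ ^ 2), ← add_assoc, CharTwo.add_self_eq_zero, zero_add] at h
    exact h

end Frame

/-- All transvections lie in the group. -/
theorem all_transvections (ha : a ≠ 0) {t₀ : F} (ht₀ : t₀ ≠ 0) (hT : el B a 0 t₀ ∈ L) (z : ι → F) (c : F) :
    el B z 0 c ∈ L := by
  classical
  have h2 : (2 : F) = 0 := CharTwo.two_eq_zero
  suffices key : ∀ z, el B z 0 (1 : F) ∈ L by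
    obtain ⟨s, hs⟩ := exists_sqrt_two h2 c
    rw [← hs, ← el_zero_smul C.sympl]
    exact key _
  obtain ⟨μ, hμ⟩ := exists_sqrt_two h2 t₀
  have hμ0 : μ • a ≠ 0 := smul_ne_zero (fun e => ht₀ (by rw [← hμ, e, zero_pow two_ne_zero])) ha
  obtain ⟨z₁, hz₁, hβ⟩ : ∃ z₁, el B z₁ 0 (1 : F) ∈ L ∧ B a z₁ ≠ 0 := by
    by_contra hno
    push Not at hno
    exact hμ0 (eq_zero_of_invariant C ha (fun z => el B z 0 (1 : F) ∈ L)
      (fun g hg u hu => tau_act_mem C hu hg) (fun u hu => hno u hu) (by rw [el_zero_smul C.sympl, hμ]; exact hT))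
  set β := B a z₁ with hβdef
  -- a frame with a centre on the line
  set b₁ := β⁻¹ • z₁ with hb₁
  have hab₁ : B a b₁ = 1 := by rw [hb₁, map_smul, smul_eq_mul, ← hβdef, inv_mul_cancel₀ hβ]
  have hzv : el B (vec a b₁ β 0 0) 0 (1 : F) ∈ L := by
    rwa [vec, hb₁, smul_inv_smul₀ hβ, add_zero, zero_smul, add_zero]
  obtain ⟨v, hv, hφv⟩ := hφ.surj C.sympl hab₁ hd (β⁻¹ ^ 2)
  have hv0 : v ≠ 0 := fun e => by
    rw [e, hφ.zero C.sympl] at hφv
    exact pow_ne_zero 2 (inv_ne_zero hβ) hφv.symm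
  set u := β • v with hudef
  have hu : InW B a b₁ u := hv.smul β
  have hall := reach C hφ hd hab₁ hβ hzv hzv hu (smul_ne_zero hβ hv0)
    (by rw [hudef, inv_smul_smul₀ hβ, hφv, CharTwo.add_self_eq_zero, zero_mul, add_zero])
  -- the shifted frame
  set b₀ := b₁ + (β⁻¹ ^ 2) • a with hb₀
  have hab : B a b₀ = 1 := by rw [hb₀, map_add, hab₁, map_smul, C.sympl.self, smul_zero, add_zero]
  have hmem : ∀ γ : F, γ ≠ 0 → el B (vec a b₀ γ 0 γ⁻¹) 0 (1 : F) ∈ L := by
    intro γ hγ
    have h1 := tau_move C hzv (hall (γ * β⁻¹ ^ 2))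
    rw [vec_pair C.sympl hab₁ (InW.zero C.sympl) hu] at h1
    have h1' : el B (vec a b₁ γ u (γ * β⁻¹ ^ 2)) 0 (1 : F) ∈ L := by
      convert h1 using 2
      simp only [vec, map_zero, LinearMap.zero_apply]
      match_scalars <;> field_simp <;> ring
    have h2' := tau_act_mem C h1' (hφ.mem (γ⁻¹ • u) (hu.smul _).1)
    rw [el_vec C.sympl hab₁ (hu.smul _) hu, smul_inv_smul₀ hγ, vadd_self] at h2'
    simp only [map_smul, LinearMap.smul_apply, C.sympl.self, smul_zero, add_zero] at h2'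
    have h3 := reach_root C hφ hd hab₁ hu hall γ⁻¹
    have h4 := tau_act_mem C h2' h3
    rw [el_vec C.sympl hab₁ (InW.zero C.sympl) (InW.zero C.sympl)] at h4
    simp only [smul_zero, add_zero, map_zero, LinearMap.zero_apply] at h4
    convert h4 using 2
    simp only [vec, hb₀]
    match_scalars <;> field_simp <;> ring_nf <;> simp [h2]
  have hshift : ∀ {γ α t : F}, el B a 0 t ∈ L → el B (vec a b₀ γ 0 α) 0 (1 : F) ∈ L →
      el B (vec a b₀ γ 0 (α + t * γ)) 0 (1 : F) ∈ L := by
    intro γ α t ht hz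
    have h := tau_act_mem C hz ht
    rwa [el_vec C.sympl hab (InW.zero C.sympl) (InW.zero C.sympl), smul_zero, add_zero, map_zero, add_zero] at h
  have hTadd : ∀ {s t : F}, el B a 0 s ∈ L → el B a 0 t ∈ L → el B a 0 (s + t) ∈ L := by
    intro s t hs ht
    have h := mul_mem hs ht
    rwa [el_mul C.sympl (map_zero _) (map_zero _), add_zero, map_zero, add_zero] at h
  have hTz : ∀ e : F, e ≠ 0 → e ≠ 1 → el B a 0 (e ^ 2 * t₀⁻¹) ∈ L := by
    intro e he he1
    have h1e : 1 + e ≠ 0 := fun h => he1 (CharTwo.add_eq_zero.1 h).symm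
    obtain ⟨s, hs⟩ := exists_sqrt_two h2 (e * (1 + e)⁻¹ * t₀⁻¹)
    have hrhs : e * (1 + e)⁻¹ * t₀⁻¹ ≠ 0 := mul_ne_zero (mul_ne_zero he (inv_ne_zero h1e)) (inv_ne_zero ht₀)
    have hs0 : s ≠ 0 := fun h => hrhs (by rw [← hs, h, zero_pow two_ne_zero])
    have hst : t₀ * s ^ 2 = e * (1 + e)⁻¹ := by rw [hs]; field_simp
    have h1 := hmem 1 one_ne_zero
    have h2' := hshift hT (hmem s hs0)
    have h := tau_move C h1 h2'
    rw [vec_pair C.sympl hab (InW.zero C.sympl) (InW.zero C.sympl), map_zero, add_zero] at h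
    set γ := s⁻¹ + t₀ * s with hγdef
    have hγe : γ * s = (1 + e)⁻¹ := by
      rw [hγdef, add_mul, inv_mul_cancel₀ hs0, mul_assoc, ← sq, hst]
      field_simp
      linear_combination e * h2
    have hγ : γ ≠ 0 := left_ne_zero_of_mul (hγe ▸ inv_ne_zero h1e)
    have h' : el B (vec a b₀ γ 0 s) 0 (1 : F) ∈ L := by
      convert h using 2
      simp only [vec, hγdef, inv_one]
      match_scalars <;> ring_nf <;> simp [h2]
    have hres := diff_mem C hφ hd hab hγ h' (hmem γ hγ)
    convert hres using 2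
    have hkey : γ ^ 2 * (e ^ 2 * t₀⁻¹) = γ * s + 1 := by
      have e1 : γ ^ 2 * s ^ 2 = ((1 + e)⁻¹) ^ 2 := by rw [← mul_pow, hγe]
      have e2 : s ^ 2 = e * (1 + e)⁻¹ * t₀⁻¹ := hs
      have e3 : γ ^ 2 * (e * t₀⁻¹) = (1 + e)⁻¹ := by
        rw [e2] at e1
        field_simp at e1 ⊢
        linear_combination e1
      have e4 : γ * s + 1 = e * (1 + e)⁻¹ := by
        rw [hγe]; field_simp; linear_combination h2
      rw [e4]
      linear_combination e * e3
    field_simp at hkey ⊢
    linear_combination hkey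
  have hTall : ∀ t, el B a 0 t ∈ L := by
    intro t
    obtain ⟨e, he⟩ := exists_sqrt_two h2 (t * t₀)
    have ht : t = e ^ 2 * t₀⁻¹ := by rw [he, mul_inv_cancel_right₀ ht₀]
    by_cases h0 : e = 0
    · rw [ht, h0, zero_pow two_ne_zero, zero_mul, el_zero C.sympl]; exact one_mem L
    by_cases h1 : e = 1
    · by_cases hq : ∀ x : F, x = 0 ∨ x = 1
      · rcases hq t₀ with h | h
        · exact absurd h ht₀
        · rw [ht, h1, h, one_pow, one_mul, inv_one, ← h]; exact hT
      · push Not at hq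
        obtain ⟨x, hx0, hx1⟩ := hq
        have hy0 : x + 1 ≠ 0 := fun h => hx1 (CharTwo.add_eq_zero.1 h)
        have h := hTadd (hTz x hx0 hx1) (hTz (x + 1) hy0 (fun h => hx0 (by simpa using h)))
        convert h using 2
        rw [ht, h1]
        linear_combination -(x ^ 2 * t₀⁻¹ + x * t₀⁻¹) * h2
    · rw [ht]; exact hTz e h0 h1
  have hline : ∀ γ α : F, γ ≠ 0 → el B (vec a b₀ γ 0 α) 0 (1 : F) ∈ L := by
    intro γ α hγ
    have h := hshift (hTall ((α + γ⁻¹) * γ⁻¹)) (hmem γ hγ)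
    convert h using 3
    field_simp
    linear_combination -h2
  intro z
  obtain ⟨w, hw, e⟩ := exists_vec C.sympl hab z
  rw [e]
  generalize B a z = γ
  generalize B b₀ z = α
  rcases eq_or_ne γ 0 with hγ | hγ
  · subst hγ
    rcases eq_or_ne w 0 with hw0 | hw0
    · rw [hw0, vec, zero_smul, zero_add, zero_add, el_zero_smul C.sympl]
      exact hTall _
    · exact reach C hφ hd hab one_ne_zero (hline 1 0 one_ne_zero) (hline 1 (φ w + 1) one_ne_zero) hw hw0
        (by rw [inv_one, one_smul]; ring_nf; simp [h2]) α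
  · have h := tau_act_mem C (hline γ (α + φ (γ⁻¹ • w) * γ) hγ) (hφ.mem _ (hw.smul γ⁻¹).1)
    rw [el_vec C.sympl hab (hw.smul _) (InW.zero C.sympl), smul_inv_smul₀ hγ, zero_add, map_zero, add_zero] at h
    convert h using 3
    linear_combination -(φ (γ⁻¹ • w) * γ) * h2

end Cfsg.Lib.Linear.TransvX
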