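import Cfsg.Agent.Lib.Linear.TransvX.FourBasic
import Cfsg.Agent.Lib.Linear.TransvX.Transv

/-!
# The symplectic group over a subfield in dimension four, characteristic two
-/

set_option autoImplicit false
set_option linter.unusedSectionVars false

namespace Cfsg.Lib.Linear.TransvX

open Module
open scoped Matrix
open Cfsg.Lib.Linear.Orth (gl_ext mul_act inv_act act_inv exists_sqrt_two)

variable {ι : Type} [Fintype ι] [DecidableEq ι] {F : Type*} [Field F] [CharP F 2]
  {B : LinearMap.BilinForm F (ι → F)} {F₀ : Subfield F} {R : Set (ι → F)}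

/-- A rational structure for the form. -/
structure RStr (B : LinearMap.BilinForm F (ι → F)) (F₀ : Subfield F) (R : Set (ι → F)) : Prop where
  sympl : Sympl B
  card : Fintype.card ι = 4
  zero : (0 : ι → F) ∈ R
  add : ∀ u ∈ R, ∀ v ∈ R, u + v ∈ R
  smul : ∀ c ∈ F₀, ∀ u ∈ R, c • u ∈ R
  val : ∀ u ∈ R, ∀ v ∈ R, B u v ∈ F₀
  sep : ∀ w : ι → F, w ≠ 0 → ∃ x ∈ R, B w x ≠ 0

/-- A rational orthogonal pair of independent vectors. -/
structure RPair (B : LinearMap.BilinForm F (ι → F)) (R : Set (ι → F)) (x e : ι → F) : Prop where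
  left : x ∈ R
  right : e ∈ R
  ne : x ≠ 0
  perp : B x e = 0
  indep : ∀ k : F, e ≠ k • x

/-- A rational symplectic basis. -/
structure RFrame (B : LinearMap.BilinForm F (ι → F)) (R : Set (ι → F)) (a b e f : ι → F) : Prop where
  ha : a ∈ R
  hb : b ∈ R
  he : e ∈ R
  hf : f ∈ R
  ab : B a b = 1
  ae : B a e = 0
  af : B a f = 0
  be : B b e = 0
  bf : B b f = 0
  ef : B e f = 1

variable (S : RStr B F₀ R)
include S

theorem RFrame.expand {a b e f : ι → F} (P : RFrame B R a b e f) (u : ι → F) :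
    u = B b u • a + B a u • b + B f u • e + B e u • f :=
  four_expand S.sympl S.card P.ab P.ae P.af P.be P.bf P.ef u

theorem RFrame.mem {a b e f : ι → F} (P : RFrame B R a b e f) {u : ι → F} (h1 : B b u ∈ F₀)
    (h2 : B a u ∈ F₀) (h3 : B f u ∈ F₀) (h4 : B e u ∈ F₀) : u ∈ R := by
  rw [P.expand S u]
  exact S.add _ (S.add _ (S.add _ (S.smul _ h1 _ P.ha) _ (S.smul _ h2 _ P.hb)) _ (S.smul _ h3 _ P.he)) _
    (S.smul _ h4 _ P.hf)

theorem RFrame.flip {a b e f : ι → F} (P : RFrame B R a b e f) : RFrame B R a b f e :=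
  ⟨P.ha, P.hb, P.hf, P.he, P.ab, P.af, P.ae, P.bf, P.be, by rw [S.sympl.symm]; exact P.ef⟩

theorem exists_rat_dual {a : ι → F} (ha : a ∈ R) (h0 : a ≠ 0) : ∃ b ∈ R, B a b = 1 := by
  obtain ⟨x, hx, hax⟩ := S.sep a h0
  exact ⟨_, S.smul _ (F₀.inv_mem (S.val a ha x hx)) x hx, by rw [map_smul, smul_eq_mul, inv_mul_cancel₀ hax]⟩

/-- The projection of a rational vector to the orthogonal space of a rational pair. -/
theorem rat_proj {a b : ι → F} (ha : a ∈ R) (hb : b ∈ R) (hab : B a b = 1) {x : ι → F} (hx : x ∈ R) :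
    (x + B a x • b + B b x • a) ∈ R ∧ InW B a b (x + B a x • b + B b x • a) :=
  ⟨S.add _ (S.add _ hx _ (S.smul _ (S.val a ha x hx) b hb)) _ (S.smul _ (S.val b hb x hx) a ha),
    ⟨by simp [S.sympl.self, hab, CharTwo.add_self_eq_zero],
      by simp [S.sympl.self, S.sympl.symm b a, hab, CharTwo.add_self_eq_zero]⟩⟩

/-- A rational vector in a pair's orthogonal space lies in a frame. -/
theorem exists_frame_of_mem {a b e : ι → F} (ha : a ∈ R) (hb : b ∈ R) (hab : B a b = 1) (he : e ∈ R)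
    (hW : InW B a b e) (he0 : e ≠ 0) : ∃ f, RFrame B R a b e f := by
  obtain ⟨x, hx, hex⟩ := exists_rat_dual S he he0
  obtain ⟨hf, hW'⟩ := rat_proj S ha hb hab hx
  exact ⟨_, ha, hb, he, hf, hab, hW.1, hW'.1, hW.2, hW'.2, by
    simp [S.sympl.symm e a, S.sympl.symm e b, hW.1, hW.2, hex]⟩

theorem exists_frame {a : ι → F} (ha : a ∈ R) (h0 : a ≠ 0) : ∃ b e f, RFrame B R a b e f := by
  obtain ⟨b, hb, hab⟩ := exists_rat_dual S ha h0
  obtain ⟨e, he, hW, he0⟩ : ∃ e ∈ R, InW B a b e ∧ e ≠ 0 := by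
    obtain ⟨w, hw, hw0⟩ := exists_W_ne S.sympl hab (by rw [S.card]; norm_num)
    obtain ⟨x, hx, hwx⟩ := S.sep w hw0
    obtain ⟨hp, hW⟩ := rat_proj S ha hb hab hx
    refine ⟨_, hp, hW, fun h => hwx ?_⟩
    have := congrArg (B w) h
    simpa [S.sympl.symm w a, S.sympl.symm w b, hw.1, hw.2] using this
  obtain ⟨f, P⟩ := exists_frame_of_mem S ha hb hab he hW he0
  exact ⟨b, e, f, P⟩

theorem RFrame.pair {a b e f : ι → F} (P : RFrame B R a b e f) : RPair B R a e :=
  ⟨P.ha, P.he, fun h => by simpa [h] using P.ab, P.ae, fun k h => by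
    have := P.ef
    simp [h, P.af] at this⟩

theorem RPair.swap {x e : ι → F} (P : RPair B R x e) : RPair B R e x := by
  refine ⟨P.right, P.left, fun h => P.indep 0 (by rw [h, zero_smul]), by rw [S.sympl.symm, P.perp], fun k h => ?_⟩
  by_cases hk : k = 0
  · exact P.ne (by rw [h, hk, zero_smul])
  · exact P.indep k⁻¹ (by rw [h, inv_smul_smul₀ hk])

theorem RPair.shift {x e : ι → F} (P : RPair B R x e) : RPair B R (e + x) e := by
  refine ⟨S.add _ P.right _ P.left, P.right, fun h => P.indep 1 (by rw [one_smul]; exact eq_of_vadd h),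
    by simp [S.sympl.self, P.perp], fun k h => ?_⟩
  by_cases hk : k = 1
  · rw [hk, one_smul] at h
    exact P.ne (add_left_cancel (a := e) (by rw [add_zero]; exact h.symm))
  · have hk' : 1 + k ≠ 0 := fun h' => hk (CharTwo.add_eq_zero.1 h').symm
    refine P.indep ((1 + k)⁻¹ * k) ?_
    have h2 : (1 + k) • e = k • x := by
      rw [add_smul, one_smul]
      nth_rewrite 1 [h]
      rw [smul_add, add_right_comm, vadd_self, zero_add]
    rw [← smul_smul, ← h2, inv_smul_smul₀ hk']

variable {L : Subgroup (GL ι F)}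

/-- What is used about the group: the rational root elements lie in it. -/
def RBelow (B : LinearMap.BilinForm F (ι → F)) (F₀ : Subfield F) (R : Set (ι → F)) (L : Subgroup (GL ι F)) :
    Prop :=
  (∀ g ∈ L, Pres B g) ∧ ∀ a ∈ R, ∀ v ∈ R, ∀ t ∈ F₀, B a v = 0 → el B a v t ∈ L

variable (hL : RBelow B F₀ R L)
include hL

theorem rat_long {a : ι → F} (ha : a ∈ R) {t : F} (ht : t ∈ F₀) : el B a 0 t ∈ L :=
  hL.2 a ha 0 S.zero t ht (map_zero _)

theorem move_step {x x' : ι → F} (hx : x ∈ R) (hx' : x' ∈ R) (h : B x x' ≠ 0) :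
    ∃ g ∈ L, g.val *ᵥ x = x' ∧ ∀ y, B (x + x') y = 0 → g.val *ᵥ y = y := by
  refine ⟨_, rat_long S hL (S.add _ hx _ hx') (F₀.inv_mem (S.val x hx x' hx')), ?_, fun y hy => ?_⟩
  · rw [long_act S.sympl, map_add, LinearMap.add_apply, S.sympl.self, zero_add, S.sympl.symm x' x,
      inv_mul_cancel₀ h, one_smul, ← add_assoc, vadd_self, zero_add]
  · rw [long_act S.sympl, hy, mul_zero, zero_smul, add_zero]

/-- A rational functional argument. -/
theorem exists_rat_both {x x' : ι → F} (hx : x ≠ 0) (hx' : x' ≠ 0) :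
    ∃ z ∈ R, B x z ≠ 0 ∧ B x' z ≠ 0 := by
  obtain ⟨z₁, hz₁, h1⟩ := S.sep x hx
  obtain ⟨z₂, hz₂, h2⟩ := S.sep x' hx'
  by_cases h1' : B x' z₁ = 0
  · by_cases h2' : B x z₂ = 0
    · exact ⟨_, S.add _ hz₁ _ hz₂, by simpa [h2'] using h1, by simpa [h1'] using h2⟩
    · exact ⟨z₂, hz₂, h2', h2⟩
  · exact ⟨z₁, hz₁, h1, h1'⟩

theorem move_one {x x' : ι → F} (hx : x ∈ R) (hx' : x' ∈ R) (h0 : x ≠ 0) (h0' : x' ≠ 0) :
    ∃ g ∈ L, g.val *ᵥ x = x' ∧ ∀ y ∈ R, g.val *ᵥ y ∈ R := by
  have hR : ∀ a ∈ R, ∀ t ∈ F₀, ∀ y ∈ R, (el B a 0 t).val *ᵥ y ∈ R := fun a ha t ht y hy => by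
    rw [long_act S.sympl]
    exact S.add _ hy _ (S.smul _ (F₀.mul_mem ht (S.val a ha y hy)) a ha)
  obtain ⟨z, hz, hxz, hx'z⟩ := exists_rat_both S hL h0 h0'
  have hzx' : B z x' ≠ 0 := by rwa [S.sympl.symm]
  refine ⟨el B (z + x') 0 (B z x')⁻¹ * el B (x + z) 0 (B x z)⁻¹,
    mul_mem (rat_long S hL (S.add _ hz _ hx') (F₀.inv_mem (S.val z hz x' hx')))
      (rat_long S hL (S.add _ hx _ hz) (F₀.inv_mem (S.val x hx z hz))), ?_, fun y hy => ?_⟩
  · rw [mul_act, long_act S.sympl, long_act S.sympl]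
    have e1 : x + ((B x z)⁻¹ * B (x + z) x) • (x + z) = z := by
      rw [map_add, LinearMap.add_apply, S.sympl.self, zero_add, S.sympl.symm z x, inv_mul_cancel₀ hxz, one_smul,
        ← add_assoc, vadd_self, zero_add]
    rw [e1, map_add, LinearMap.add_apply, S.sympl.self, zero_add, S.sympl.symm x' z, inv_mul_cancel₀ hzx',
      one_smul, ← add_assoc, vadd_self, zero_add]
  · rw [mul_act]
    exact hR _ (S.add _ hz _ hx') _ (F₀.inv_mem (S.val z hz x' hx')) _
      (hR _ (S.add _ hx _ hz) _ (F₀.inv_mem (S.val x hx z hz)) _ hy)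

/-- Any rational pair is carried to any other. -/
theorem move_pair {x e x' e' : ι → F} (P : RPair B R x e) (P' : RPair B R x' e') :
    ∃ g ∈ L, g.val *ᵥ x = x' ∧ g.val *ᵥ e = e' := by
  obtain ⟨g, hg, hgx, hgR⟩ := move_one S hL P.left P'.left P.ne P'.ne
  set e₁ := g.val *ᵥ e
  have he₁ : e₁ ∈ R := hgR e P.right
  have hxe₁ : B x' e₁ = 0 := by rw [← hgx, hL.1 g hg, P.perp]
  have hind : ∀ k : F, e₁ ≠ k • x' := fun k h => P.indep k (Lib.Linear.Orth.act_injective g (by
    show g.val *ᵥ e = g.val *ᵥ (k • x)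
    rw [Matrix.mulVec_smul, hgx]; exact h))
  have hsep : ∀ u ∈ R, (∀ k : F, u ≠ k • x') → ∃ d ∈ R, B x' d = 0 ∧ B u d ≠ 0 := by
    intro u hu hk
    obtain ⟨b, hb, hxb⟩ := exists_rat_dual S P'.left P'.ne
    have hne : u + B b u • x' ≠ 0 := fun h => hk _ (eq_of_vadd h)
    obtain ⟨z, hz, huz⟩ := S.sep _ hne
    refine ⟨z + B x' z • b, S.add _ hz _ (S.smul _ (S.val _ P'.left _ hz) b hb),
      by simp [hxb, CharTwo.add_self_eq_zero], fun h => huz ?_⟩
    simp only [map_add, map_smul, LinearMap.add_apply, LinearMap.smul_apply, smul_eq_mul,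
      S.sympl.symm u b] at h ⊢
    linear_combination h
  obtain ⟨d₁, hd₁, hxd₁, h1⟩ := hsep e₁ he₁ hind
  obtain ⟨d₂, hd₂, hxd₂, h2⟩ := hsep e' P'.right P'.indep
  obtain ⟨d, hd, hxd, hd1, hd2⟩ : ∃ d ∈ R, B x' d = 0 ∧ B e₁ d ≠ 0 ∧ B e' d ≠ 0 := by
    by_cases h1' : B e' d₁ = 0
    · by_cases h2' : B e₁ d₂ = 0
      · exact ⟨_, S.add _ hd₁ _ hd₂, by simp [hxd₁, hxd₂], by simpa [h2'] using h1, by simpa [h1'] using h2⟩
      · exact ⟨d₂, hd₂, hxd₂, h2', h2⟩
    · exact ⟨d₁, hd₁, hxd₁, h1, h1'⟩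
  obtain ⟨g₁, hg₁, e1, f1⟩ := move_step S hL he₁ hd hd1
  obtain ⟨g₂, hg₂, e2, f2⟩ := move_step S hL hd P'.right (by rwa [S.sympl.symm])
  refine ⟨g₂ * (g₁ * g), mul_mem hg₂ (mul_mem hg₁ hg), ?_, ?_⟩
  · rw [mul_act, mul_act, hgx, f1 x' (by simp [S.sympl.symm e₁ x', S.sympl.symm d x', hxe₁, hxd]),
      f2 x' (by simp [S.sympl.symm e' x', S.sympl.symm d x', P'.perp, hxd])]
  · rw [mul_act, mul_act]
    show g₂.val *ᵥ (g₁.val *ᵥ e₁) = e'
    rw [e1, e2]

/-- The elements of a shape are present at every pair. -/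
def All (B : LinearMap.BilinForm F (ι → F)) (R : Set (ι → F)) (L : Subgroup (GL ι F)) (s r : F) : Prop :=
  ∀ x e, RPair B R x e → el B x (s • e) r ∈ L

theorem All.of_one {x e : ι → F} (P : RPair B R x e) {s r : F} (h : el B x (s • e) r ∈ L) :
    All B R L s r := fun x' e' P' => by
  obtain ⟨g, hg, h1, h2⟩ := move_pair S hL P P'
  have := Pres.conj_el S.sympl (hL.1 g hg) hg (by simp [P.perp]) h
  rwa [Matrix.mulVec_smul, h1, h2] at this

/-- Long root coefficients at rational centres. -/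
def TSet (B : LinearMap.BilinForm F (ι → F)) (R : Set (ι → F)) (L : Subgroup (GL ι F)) : Set F :=
  {t | ∀ a ∈ R, el B a 0 t ∈ L}

theorem tset_of_one {a : ι → F} (ha : a ∈ R) (h0 : a ≠ 0) {t : F} (h : el B a 0 t ∈ L) : t ∈ TSet B R L := by
  intro a' ha'
  by_cases h0' : a' = 0
  · rw [h0', show el B (0 : ι → F) 0 t = 1 from gl_ext fun x => by rw [long_act S.sympl]; simp]
    exact one_mem _
  obtain ⟨g, hg, hga, -⟩ := move_one S hL ha ha' h0 h0'
  have := Pres.conj_el S.sympl (hL.1 g hg) hg (map_zero _) h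
  rwa [Matrix.mulVec_zero, hga] at this

theorem tset_triangle {s r : F} (h : All B R L s r) {a b e f : ι → F} (P : RFrame B R a b e f) :
    r + s ^ 2 ∈ TSet B R L := by
  have P1 := P.pair S
  have P2 := (P.flip S).pair S
  have P3 : RPair B R a (e + f) := ⟨P.ha, S.add _ P.he _ P.hf, P1.ne, by simp [P.ae, P.af], fun k hk => by
    have := congrArg (B e) hk
    simp [S.sympl.self, P.ef, S.sympl.symm e a, P.ae] at this⟩
  exact tset_of_one S hL P.ha P1.ne (triangle_mem S.sympl P.ae P.af P.ef (h _ _ P1) (h _ _ P2) (h _ _ P3))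

/-- A long coefficient gives short ones. -/
theorem all_short {t : F} (ht : t ∈ TSet B R L) : All B R L t 0 := fun x e P => by
  have h1 := long_sum S.sympl P.perp 1 t
  rw [one_smul, one_mul, one_pow, one_mul] at h1
  have hm := mul_mem (mul_mem (ht (e + x) (S.add _ P.right _ P.left)) (ht e P.right)) (ht x P.left)
  rw [h1, mul_assoc (el B x (t • e) t), long_add S.sympl, CharTwo.add_self_eq_zero, el_zero S.sympl, mul_one,
    el_mul S.sympl (by simp [P.perp]) (map_zero _)] at hm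
  simpa [CharTwo.add_self_eq_zero] using hm

theorem tset_add {s t : F} (hs : s ∈ TSet B R L) (ht : t ∈ TSet B R L) : s + t ∈ TSet B R L := fun a ha => by
  rw [← long_add S.sympl]
  exact mul_mem (hs a ha) (ht a ha)

variable {a₀ b₀ e₀ f₀ : ι → F} (P₀ : RFrame B R a₀ b₀ e₀ f₀)
include P₀

theorem tset_sq {t : F} (ht : t ∈ TSet B R L) : t ^ 2 ∈ TSet B R L := by
  simpa using tset_triangle S hL (all_short S hL ht) P₀

theorem tset_sqrt [Finite F] {t : F} (ht : t ^ 2 ∈ TSet B R L) : t ∈ TSet B R L := by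
  let f : TSet B R L → TSet B R L := fun u => ⟨u.1 ^ 2, tset_sq S hL P₀ u.2⟩
  have hinj : Function.Injective f := fun u v h => Subtype.ext (CharTwo.sq_injective (congrArg Subtype.val h))
  obtain ⟨⟨u, hu⟩, he⟩ := (Finite.injective_iff_surjective.1 hinj) ⟨t ^ 2, ht⟩
  obtain rfl : u = t := CharTwo.sq_injective (congrArg Subtype.val he : u ^ 2 = t ^ 2)
  exact hu

theorem tset_mul_artin [Finite F] {u t : F} (hu : u ∈ TSet B R L) (ht : t ∈ TSet B R L) :
    u * (t + t ^ 2) ∈ TSet B R L := by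
  haveI := Fintype.ofFinite F
  obtain ⟨s, hs⟩ := exists_sqrt_two (CharTwo.two_eq_zero (R := F)) u
  have hs' : s ∈ TSet B R L := tset_sqrt S hL P₀ (by rwa [hs])
  have hall : All B R L (s * t) (s ^ 2 * t) := fun x e P => by
    obtain ⟨b, hb, hxb⟩ := exists_rat_dual S P.left P.ne
    have he' : e + B b e • x ∈ R := S.add _ P.right _ (S.smul _ (S.val b hb e P.right) x P.left)
    have hne : e + B b e • x ≠ 0 := fun h => P.indep _ (eq_of_vadd h)
    obtain ⟨f, Pf⟩ := exists_frame_of_mem S P.left hb hxb he' (by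
      refine ⟨by simp [P.perp, S.sympl.self], ?_⟩
      simp [S.sympl.symm b x, hxb, CharTwo.add_self_eq_zero]) hne
    set e' := e + B b e • x
    have hg := all_short S hL hs' x f ((Pf.flip S).pair S)
    have hm := mul_mem (mul_mem hg (ht e' he')) (inv_mem hg)
    rw [el_conj S.sympl (hL.1 _ hg) (map_zero _), Matrix.mulVec_zero, el_act S.sympl (by simp [Pf.af]),
      Pf.ae] at hm
    have h2 : B (s • f) e' = s := by simp [S.sympl.symm f e', Pf.ef]
    rw [h2, zero_smul, add_zero, mul_zero, add_zero, long_sum S.sympl Pf.ae s t] at hm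
    have := (Subgroup.mul_mem_cancel_right L (ht e' he')).1 hm
    rwa [show (s * t) • e' = (s * t) • e + ((s * t) * B b e) • x by rw [smul_add, smul_smul],
      el_add_self S.sympl (by simp [P.perp])] at this
  have := tset_triangle S hL hall P₀
  rw [← hs]
  convert this using 1
  ring

theorem tset_smul {l : F} (hl : l ∈ F₀) [Finite F] {t : F} (ht : t ∈ TSet B R L) : l * t ∈ TSet B R L := by
  by_cases hl0 : l = 0
  · rw [hl0, zero_mul]
    exact fun a ha => rat_long S hL ha F₀.zero_mem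
  let f : F₀ → F₀ := fun u => u ^ 2
  have hinj : Function.Injective f := fun u v h =>
    Subtype.ext (CharTwo.sq_injective (congrArg Subtype.val h))
  obtain ⟨m, hm⟩ := (Finite.injective_iff_surjective.1 hinj) ⟨l, hl⟩
  have hm' : (m : F) ^ 2 = l := congrArg Subtype.val hm
  have h0 : a₀ ≠ 0 := (P₀.pair S).ne
  have h := ht ((m : F) • a₀) (S.smul _ m.2 _ P₀.ha)
  rw [el_smul_base S.sympl _ (map_zero _), smul_zero, hm'] at h
  exact tset_of_one S hL P₀.ha h0 h

/-- One irrational long coefficient gives all of them. -/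
theorem tset_univ [Finite F] {r : ℕ} (hr : r.Prime) (hcard : Nat.card F = Nat.card F₀ ^ r) {t₀ : F}
    (h₀ : t₀ ∉ F₀) (ht₀ : t₀ ∈ TSet B R L) : ∀ t, t ∈ TSet B R L := by
  have hone : (1 : F) ∈ TSet B R L := fun a ha => rat_long S hL ha F₀.one_mem
  let M : Subalgebra F₀ F :=
    { carrier := {m | ∀ t ∈ TSet B R L, m * t ∈ TSet B R L}
      mul_mem' := fun {a b} ha hb t ht => by rw [mul_assoc]; exact ha _ (hb t ht)
      one_mem' := fun t ht => by rwa [one_mul]
      add_mem' := fun {a b} ha hb t ht => by rw [add_mul]; exact tset_add S hL (ha t ht) (hb t ht)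
      zero_mem' := fun t _ => by rw [zero_mul]; exact fun a ha => rat_long S hL ha F₀.zero_mem
      algebraMap_mem' := fun l t ht => tset_smul S hL P₀ l.2 ht }
  have hfr : (Module.finrank F₀ F).Prime := by
    have h1 := Module.natCard_eq_pow_finrank (K := F₀) (V := F)
    rw [hcard] at h1
    rwa [← Nat.pow_right_injective Finite.one_lt_card h1]
  haveI := Subalgebra.isSimpleOrder_of_finrank_prime F₀ F hfr
  rcases eq_bot_or_eq_top M with hM | hM
  · have hk : t₀ + t₀ ^ 2 ∈ F₀ := by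
      have h : t₀ + t₀ ^ 2 ∈ M := fun t ht => by
        rw [mul_comm]
        exact tset_mul_artin S hL P₀ ht ht₀
      rw [hM, Algebra.mem_bot] at h
      obtain ⟨k, hk⟩ := h
      exact hk ▸ k.2
    let A : Subalgebra F₀ F :=
      { carrier := {x | ∃ a b : F₀, x = (a : F) + (b : F) * t₀}
        mul_mem' := by
          rintro _ _ ⟨a, b, rfl⟩ ⟨c, d, rfl⟩
          refine ⟨a * c + b * d * ⟨_, hk⟩, a * d + b * c + b * d, ?_⟩
          push_cast
          linear_combination (-((b : F) * d * t₀)) * (CharTwo.two_eq_zero (R := F))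
        add_mem' := by
          rintro _ _ ⟨a, b, rfl⟩ ⟨c, d, rfl⟩
          exact ⟨a + c, b + d, by push_cast; ring⟩
        algebraMap_mem' := fun a => ⟨a, 0, by simp; rfl⟩ }
    have hA : A = ⊤ := (eq_bot_or_eq_top A).resolve_left fun hb => h₀ (by
      have h : t₀ ∈ A := ⟨0, 1, by simp⟩
      rw [hb, Algebra.mem_bot] at h
      obtain ⟨k, hk⟩ := h
      exact hk ▸ k.2)
    intro t
    obtain ⟨a, b, rfl⟩ : t ∈ A := hA ▸ Algebra.mem_top
    exact tset_add S hL (by simpa using tset_smul S hL P₀ a.2 hone) (tset_smul S hL P₀ b.2 ht₀)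
  · intro t
    have h : t ∈ M := hM ▸ Algebra.mem_top
    simpa using h 1 hone

/-- An element of orthogonal type gives an irrational long coefficient. -/
theorem tset_of_quad [Finite F] {c : F} (hc : c ∉ F₀) (h : All B R L c (c ^ 2)) :
    ∃ t ∉ F₀, t ∈ TSet B R L := by
  have hc2 : c ^ 2 ∉ F₀ := fun h' => hc (by
    let f : F₀ → F₀ := fun u => u ^ 2
    have hinj : Function.Injective f := fun u v e =>
      Subtype.ext (CharTwo.sq_injective (congrArg Subtype.val e))
    obtain ⟨m, hm⟩ := (Finite.injective_iff_surjective.1 hinj) ⟨_, h'⟩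
    rw [← CharTwo.sq_injective (congrArg Subtype.val hm : (m : F) ^ 2 = c ^ 2)]
    exact m.2)
  -- the product at both vectors of a pair
  have hA : ∀ x e, RPair B R x e → el B x 0 (c ^ 2) * el B e 0 (c ^ 2) ∈ L := fun x e P => by
    have h1 := h x e P
    have h2 := h e x (P.swap S)
    have hxe : B x (c • e) = 0 := by simp [P.perp]
    have hex : B e (c • x) = 0 := by simp [S.sympl.symm e x, P.perp]
    have hs : el B e (c • x) (0 : F) = el B x (c • e) 0 := by
      refine gl_ext fun y => ?_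
      rw [el_act S.sympl hex, el_act S.sympl hxe]
      simp only [map_smul, LinearMap.smul_apply, smul_eq_mul]
      match_scalars <;> ring
    have hm := mul_mem h1 h2
    rw [el_split S.sympl hxe, el_split S.sympl hex, hs,
      ← mul_assoc (el B x (c • e) 0 * el B x 0 (c ^ 2)) (el B x (c • e) 0)] at hm
    have hcomm : el B x (c • e) 0 * el B x 0 (c ^ 2) * el B x (c • e) 0 = el B x 0 (c ^ 2) := by
      rw [el_mul S.sympl hxe (map_zero _), el_mul S.sympl (by simp [P.perp]) hxe]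
      simp [vadd_self, S.sympl.self]
    rwa [hcomm] at hm
  have hF : All B R L (c ^ 2) (c ^ 2) := fun e x P' => by
    have P := P'.swap S
    have hm := mul_mem (hA x e P) (hA (e + x) e (P.shift S))
    have h1 := long_sum S.sympl P.perp 1 (c ^ 2)
    rw [one_smul, one_mul, one_pow, one_mul] at h1
    rw [h1, mul_assoc (el B x (c ^ 2 • e) (c ^ 2)), long_add S.sympl, CharTwo.add_self_eq_zero, el_zero S.sympl,
      mul_one] at hm
    have hxe : B x (c ^ 2 • e) = 0 := by simp [P.perp]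
    have h2 : el B x 0 (c ^ 2) * el B e 0 (c ^ 2) * el B x (c ^ 2 • e) (c ^ 2) =
        el B e (c ^ 2 • x) (c ^ 2) := by
      refine gl_ext fun y => ?_
      rw [mul_act, mul_act, long_act S.sympl, long_act S.sympl, el_act S.sympl hxe,
        el_act S.sympl (by simp [S.sympl.symm e x, P.perp])]
      simp only [map_add, map_smul, LinearMap.smul_apply, smul_eq_mul, S.sympl.self, P.perp,
        S.sympl.symm e x]
      match_scalars <;> ring_nf <;> simp [CharTwo.two_eq_zero]
    rwa [h2] at hm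
  have hD : All B R L (c ^ 3) (c ^ 4) := fun x e P => by
    obtain ⟨b, hb, hxb⟩ := exists_rat_dual S P.left P.ne
    have he' : e + B b e • x ∈ R := S.add _ P.right _ (S.smul _ (S.val b hb e P.right) x P.left)
    have hne : e + B b e • x ≠ 0 := fun h' => P.indep _ (eq_of_vadd h')
    obtain ⟨f, Pf⟩ := exists_frame_of_mem S P.left hb hxb he' (by
      refine ⟨by simp [P.perp, S.sympl.self], ?_⟩
      simp [S.sympl.symm b x, hxb, CharTwo.add_self_eq_zero]) hne
    set e' := e + B b e • x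
    have hg := h x f ((Pf.flip S).pair S)
    have hxf : B x (c • f) = 0 := by simp [Pf.af]
    have hgx : (el B x (c • f) (c ^ 2)).val *ᵥ x = x :=
      el_fix_vec S.sympl hxf _ (S.sympl.self _) (by rw [S.sympl.symm]; exact hxf)
    have hge : (el B x (c • f) (c ^ 2)).val *ᵥ e' = e' + c • x := by
      rw [el_act S.sympl hxf, Pf.ae]
      simp [S.sympl.symm f e', Pf.ef]
    have h0 := hA x e' (Pf.pair S)
    have h1 : el B x 0 (c ^ 2) * el B (e' + c • x) 0 (c ^ 2) ∈ L := by
      have := mul_mem (mul_mem hg h0) (inv_mem hg)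
      rw [← conj_mul, el_conj S.sympl (hL.1 _ hg) (map_zero _), el_conj S.sympl (hL.1 _ hg) (map_zero _),
        Matrix.mulVec_zero, hgx, hge] at this
      exact this
    have hm := mul_mem h1 h0
    rw [long_sum S.sympl Pf.ae c (c ^ 2)] at hm
    have h2 : el B x 0 (c ^ 2) * (el B x ((c * c ^ 2) • e') (c ^ 2 * c ^ 2) * el B e' 0 (c ^ 2)) *
        (el B x 0 (c ^ 2) * el B e' 0 (c ^ 2)) = el B x ((c * c ^ 2) • e') (c ^ 2 * c ^ 2) := by
      refine gl_ext fun y => ?_
      simp only [mul_act, long_act S.sympl, el_act S.sympl (show B x ((c * c ^ 2) • e') = 0 by simp [Pf.ae])]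
      simp only [map_add, map_smul, LinearMap.smul_apply, smul_eq_mul, S.sympl.self, Pf.ae,
        S.sympl.symm e' x]
      match_scalars <;> ring_nf <;> simp [CharTwo.two_eq_zero]
    rw [h2, show (c * c ^ 2) • e' = (c ^ 3) • e + (c ^ 3 * B b e) • x by
        rw [smul_add, smul_smul]; ring_nf,
      el_add_self S.sympl (by simp [P.perp]), ← pow_add] at hm
    exact hm
  by_cases hk : c ^ 2 + c ^ 4 ∈ F₀
  · refine ⟨c ^ 4 + c ^ 6, fun hk' => hc2 ?_, by
      simpa [← pow_mul] using tset_triangle S hL hD P₀⟩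
    have hk0 : c ^ 2 + c ^ 4 ≠ 0 := fun h0 => by
      have h' : c ^ 2 * (c + 1) ^ 2 = 0 := by
        linear_combination h0 + c ^ 3 * (CharTwo.two_eq_zero (R := F))
      rcases mul_eq_zero.1 h' with h' | h'
      · exact hc (by rw [pow_eq_zero_iff two_ne_zero |>.1 h']; exact F₀.zero_mem)
      · exact hc (by rw [CharTwo.add_eq_zero.1 (pow_eq_zero_iff two_ne_zero |>.1 h')]; exact F₀.one_mem)
    have : c ^ 2 = (c ^ 4 + c ^ 6) * (c ^ 2 + c ^ 4)⁻¹ := by
      rw [eq_mul_inv_iff_mul_eq₀ hk0]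
      ring
    rw [this]
    exact F₀.mul_mem hk' (F₀.inv_mem hk)
  · exact ⟨_, hk, by simpa [← pow_mul] using tset_triangle S hL hF P₀⟩

omit P₀

theorem sq_notMem [Finite F] {c : F} (hc : c ∉ F₀) : c ^ 2 ∉ F₀ := fun h' => hc (by
  let f : F₀ → F₀ := fun u => u ^ 2
  have hinj : Function.Injective f := fun u v e =>
    Subtype.ext (CharTwo.sq_injective (congrArg Subtype.val e))
  obtain ⟨m, hm⟩ := (Finite.injective_iff_surjective.1 hinj) ⟨_, h'⟩
  rw [← CharTwo.sq_injective (congrArg Subtype.val hm : (m : F) ^ 2 = c ^ 2)]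
  exact m.2)

/-- An irrational coordinate of a centre orthogonal to a rational vector gives an element of orthogonal type. -/
theorem quad_of_coord {x b e f z : ι → F} (P : RFrame B R x b e f) (hxz : B x z = 0)
    (hz : el B z 0 (1 : F) ∈ L) : All B R L (B e z ^ 2) ((B e z ^ 2) ^ 2) := by
  have SS := S.sympl
  set q := B e z with hq
  set p := B f z with hp
  have h : el B x e (0 : F) ∈ L := hL.2 x P.ha e P.he 0 F₀.zero_mem P.ae
  have h1 := Pres.conj_el SS (hL.1 _ h) h (map_zero _) hz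
  rw [Matrix.mulVec_zero, el_act SS P.ae, hxz, zero_smul, add_zero, mul_zero, add_zero, ← hq,
    long_sum SS hxz q 1, mul_one, mul_one] at h1
  have h2 := (Subgroup.mul_mem_cancel_right L hz).1 h1
  set w := p • e + q • f with hw
  have hqz : q • z = q • w + (q * B b z) • x := by
    conv_lhs => rw [P.expand S z]
    rw [hxz, hw]
    module
  rw [hqz, el_add_self SS (by simp [hw, P.ae, P.af])] at h2
  have hτ : el B e 0 (1 : F) ∈ L := rat_long S hL P.he F₀.one_mem
  have h3 := Pres.conj_el SS (hL.1 _ hτ) hτ (by simp [hw, P.ae, P.af]) h2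
  rw [Matrix.mulVec_smul, long_act SS, long_act SS, SS.symm e x, P.ae, mul_zero, zero_smul, add_zero] at h3
  have hew : B e w = q := by simp [hw, SS.self, P.ef]
  rw [hew, one_mul] at h3
  have h4 := mul_mem h2 h3
  rw [el_mul SS (by simp [hw, P.ae, P.af]) (by simp [hw, P.ae, P.af])] at h4
  refine All.of_one S hL (P.pair S) ?_
  convert h4 using 2
  · simp only [hw]
    match_scalars <;> ring_nf <;> simp [CharTwo.two_eq_zero]
  · simp only [map_add, map_smul, LinearMap.add_apply, LinearMap.smul_apply, smul_eq_mul, SS.self,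
      SS.symm w e, hew]
    ring_nf
    simp [CharTwo.two_eq_zero]

/-- An irrational centre orthogonal to a rational vector gives an irrational long coefficient. -/
theorem tset_of_perp [Finite F] {x z : ι → F} (hx : x ∈ R) (hx0 : x ≠ 0) (hxz : B x z = 0) (hzR : z ∉ R)
    (hz : el B z 0 (1 : F) ∈ L) : ∃ t ∉ F₀, t ∈ TSet B R L := by
  have SS := S.sympl
  obtain ⟨b, e, f, P⟩ := exists_frame S hx hx0
  have done : ∀ {x' b' e' f' : ι → F}, RFrame B R x' b' e' f' → B x' z = 0 → B e' z ∉ F₀ →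
      ∃ t ∉ F₀, t ∈ TSet B R L := fun P' h h' =>
    tset_of_quad S hL P' (sq_notMem S hL h') (quad_of_coord S hL P' h hz)
  by_cases hq : B e z ∈ F₀
  swap
  · exact done P hxz hq
  by_cases hp : B f z ∈ F₀
  swap
  · exact done (P.flip S) hxz hp
  have hζ : B b z ∉ F₀ := fun h => hzR (P.mem S h (by rw [hxz]; exact F₀.zero_mem) hp hq)
  by_cases h0 : B f z = 0 ∧ B e z = 0
  · refine ⟨B b z ^ 2, sq_notMem S hL hζ, tset_of_one S hL hx hx0 ?_⟩
    have he := P.expand S z
    rw [hxz, h0.1, h0.2, zero_smul, zero_smul, zero_smul, add_zero, add_zero, add_zero] at he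
    rwa [he, el_zero_smul SS] at hz
  set w := B f z • e + B e z • f with hw
  have hwR : w ∈ R := S.add _ (S.smul _ hp _ P.he) _ (S.smul _ hq _ P.hf)
  have hw0 : w ≠ 0 := fun hw' => h0 (by
    have h1 := congrArg (B f) hw'
    have h2 := congrArg (B e) hw'
    simp [hw, SS.self, SS.symm f e, P.ef] at h1 h2
    exact ⟨h1, h2⟩)
  have hwz : B w z = 0 := by
    simp only [hw, map_add, map_smul, LinearMap.add_apply, LinearMap.smul_apply, smul_eq_mul]
    linear_combination (B f z * B e z) * (CharTwo.two_eq_zero (R := F))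
  have hwb : B w b = 0 := by simp [hw, SS.symm e b, SS.symm f b, P.be, P.bf]
  obtain ⟨b', e', f', P'⟩ := exists_frame S hwR hw0
  by_cases he' : B e' z ∈ F₀
  swap
  · exact done P' hwz he'
  by_cases hf' : B f' z ∈ F₀
  swap
  · exact done (P'.flip S) hwz hf'
  refine absurd ?_ hζ
  rw [P'.expand S b, hwb]
  simp only [zero_smul, add_zero, map_add, map_smul, LinearMap.add_apply, LinearMap.smul_apply, smul_eq_mul,
    hwz, mul_zero, zero_add]
  exact F₀.add_mem (F₀.mul_mem (S.val _ P'.hf _ P.hb) he') (F₀.mul_mem (S.val _ P'.he _ P.hb) hf')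

/-- A group above the subfield group consists of rational elements or is everything. -/
theorem rat_overgroup [Fintype F] {r : ℕ} (hr : r.Prime) (hcard : Nat.card F = Nat.card F₀ ^ r) :
    (∀ g ∈ L, ∀ u ∈ R, g.val *ᵥ u ∈ R) ∨ ∀ g, Pres B g → g ∈ L := by
  classical
  have SS := S.sympl
  by_cases hall : ∀ g ∈ L, ∀ u ∈ R, g.val *ᵥ u ∈ R
  · exact Or.inl hall
  push Not at hall
  obtain ⟨g, hg, a, ha, hz⟩ := hall
  refine Or.inr ?_
  have ha0 : a ≠ 0 := fun h => hz (by rw [h, Matrix.mulVec_zero]; exact S.zero)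
  set z := g.val *ᵥ a with hzdef
  have conj1 : ∀ {k : GL ι F}, k ∈ L → ∀ {u : ι → F}, el B u 0 (1 : F) ∈ L → el B (k.val *ᵥ u) 0 (1 : F) ∈ L :=
    fun hk _ hu => by simpa using Pres.conj_el SS (hL.1 _ hk) hk (map_zero _) hu
  have haL : el B a 0 (1 : F) ∈ L := rat_long S hL ha F₀.one_mem
  have hzL : el B z 0 (1 : F) ∈ L := conj1 hg haL
  obtain ⟨t, ht0, ht⟩ : ∃ t ∉ F₀, t ∈ TSet B R L := by
    by_cases hker : ∃ x ∈ R, x ≠ 0 ∧ B x z = 0
    · obtain ⟨x, hx, hx0, hxz⟩ := hker
      exact tset_of_perp S hL hx hx0 hxz hz hzL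
    push Not at hker
    obtain ⟨b, e, f, P⟩ := exists_frame S ha ha0
    have Pe := P.pair S
    have he0 : e ≠ 0 := (Pe.swap S).ne
    -- move `z` inside the group so that the two centres are orthogonal
    have hh : el B a e (0 : F) ∈ L := hL.2 a ha e P.he 0 F₀.zero_mem P.ae
    set z₁ := (el B a e (0 : F)).val *ᵥ z with hz₁
    have hz₁e : z₁ = z + B a z • e + B e z • a := by rw [hz₁, el_act SS P.ae, zero_mul, add_zero]
    set a₁ := (g⁻¹ : GL ι F).val *ᵥ z₁ with ha₁
    have ha₁L : el B a₁ 0 (1 : F) ∈ L := conj1 (inv_mem hg) (conj1 hh hzL)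
    have haa₁ : B a a₁ = 0 := by
      rw [← hL.1 g hg a a₁, ha₁, act_inv, ← hzdef, hz₁e]
      simp [SS.self, SS.symm z e, SS.symm z a, mul_comm]
      linear_combination (B a z * B e z) * (CharTwo.two_eq_zero (R := F))
    by_cases ha₁R : a₁ ∈ R
    swap
    · exact tset_of_perp S hL ha ha0 haa₁ ha₁R ha₁L
    set w := B a z • e + B e z • a with hw
    have hwL : el B w 0 (1 : F) ∈ L := by
      have h := conj1 hg (rat_long S hL (S.add _ ha _ ha₁R) F₀.one_mem)
      rwa [Matrix.mulVec_add, ← hzdef, ha₁, act_inv, hz₁e, add_assoc z, ← add_assoc z z, vadd_self, zero_add] at h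
    refine tset_of_perp S hL ha ha0 (by simp [hw, SS.self, P.ae]) (fun hwR => ?_) hwL
    have hα : B a z ∈ F₀ := by
      have := S.val _ hwR _ P.hf
      simpa [hw, P.ef, P.af] using this
    have hβ : B e z ∈ F₀ := by
      have := S.val _ hwR _ P.hb
      simpa [hw, P.ab, SS.symm e b, P.be] using this
    have hu : (B e z • a + B a z • e) ∈ R := S.add _ (S.smul _ hβ _ P.ha) _ (S.smul _ hα _ P.he)
    refine hker _ hu (fun h0 => hker a ha ha0 ?_) ?_
    · have h1 := congrArg (B f) h0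
      simpa [SS.symm f a, SS.symm f e, P.af, P.ef] using h1
    · simp only [map_add, map_smul, LinearMap.add_apply, LinearMap.smul_apply, smul_eq_mul]
      linear_combination (B a z * B e z) * (CharTwo.two_eq_zero (R := F))
  obtain ⟨b, e, f, P⟩ := exists_frame S ha ha0
  have hT := tset_univ S hL P hr hcard ht0 ht
  have hirr : Irr B L := by
    refine ⟨SS, hL.1, fun W hW => or_iff_not_imp_left.2 fun hW0 => ?_⟩
    obtain ⟨w, hw, hw0⟩ := Submodule.exists_mem_ne_zero_of_ne_bot hW0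
    obtain ⟨y, hy, hwy⟩ := S.sep w hw0
    have hin : ∀ x ∈ R, B x w ≠ 0 → x ∈ W := fun x hx hxw => by
      have h1 := W.sub_mem (hW _ (rat_long S hL hx F₀.one_mem) w hw) hw
      rw [long_act SS, one_mul, add_sub_cancel_left] at h1
      have h2 := W.smul_mem (B x w)⁻¹ h1
      rwa [inv_smul_smul₀ hxw] at h2
    have hyW : y ∈ W := hin y hy (by rwa [SS.symm])
    have hRW : ∀ x ∈ R, x ∈ W := fun x hx => by
      by_cases hxw : B x w = 0
      · have := W.sub_mem (hin (x + y) (S.add _ hx _ hy) (by simpa [hxw, SS.symm y w] using hwy)) hyW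
        rwa [add_sub_cancel_right] at this
      · exact hin x hx hxw
    refine eq_top_iff.2 fun v _ => ?_
    rw [P.expand S v]
    exact add_mem (add_mem (add_mem (W.smul_mem _ (hRW _ P.ha)) (W.smul_mem _ (hRW _ P.hb)))
      (W.smul_mem _ (hRW _ P.he))) (W.smul_mem _ (hRW _ P.hf))
  have hφ : RootFun B L a (fun v => B f v * B e v) := by
    refine ⟨fun v hv => ?_, fun u v hu hv => ?_⟩
    · have h1 := mul_mem (all_short S hL (hT (B f v)) a e (P.pair S))
        (all_short S hL (hT (B e v)) a f ((P.flip S).pair S))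
      rw [el_mul SS (by simp [P.ae]) (by simp [P.af]),
        ← el_add_self SS (by simp [P.ae, P.af]) (B b v)] at h1
      convert h1 using 2
      · conv_lhs => rw [P.expand S v, hv]
        module
      · simp [P.ef, mul_comm]
    · have hB : B u v = B f u * B e v + B e u * B f v := by
        conv_lhs => rw [P.expand S u, hu]
        simp [hv]
      simp only [hB, map_add]
      ring
  exact fun g' => pres_mem_of_transvections SS
    (all_transvections hirr hφ (by rw [S.card]; norm_num) ha0 one_ne_zero haL)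

end Cfsg.Lib.Linear.TransvX
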