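import Cfsg.Agent.Lib.Linear.OrthBasic

/-!
# The unipotent radical of a point stabiliser in a symplectic space of characteristic two

`el a v t` is the map `x ↦ x + B(a,x) v + (B(v,x) + t B(a,x)) a`, for `v` orthogonal to `a`.
-/

set_option autoImplicit false
set_option linter.unusedSectionVars false

namespace Cfsg.Lib.Linear.TransvX

open Module
open scoped Matrix
open Cfsg.Lib.Linear.Orth (gl_ext mat_ext mul_act inv_act act_inv toGL toGL_val cov cov_dot)

variable {ι : Type} [Fintype ι] [DecidableEq ι] {F : Type*} [Field F] [CharP F 2]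
  {B : LinearMap.BilinForm F (ι → F)}

/-- A non-degenerate alternating form. -/
structure Sympl (B : LinearMap.BilinForm F (ι → F)) : Prop where
  self : ∀ v, B v v = 0
  nondeg : ∀ v, (∀ u, B u v = 0) → v = 0

theorem vadd_self (v : ι → F) : v + v = 0 := funext fun i => CharTwo.add_self_eq_zero (v i)

theorem eq_of_vadd {u v : ι → F} (h : u + v = 0) : u = v := by
  calc u = u + (v + v) := by rw [vadd_self, add_zero]
    _ = v := by rw [← add_assoc, h, zero_add]

theorem Sympl.symm (S : Sympl B) (u v : ι → F) : B u v = B v u := by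
  have h := S.self (u + v)
  simp only [map_add, LinearMap.add_apply, S.self, zero_add, add_zero] at h
  exact (CharTwo.add_eq_zero.1 h).symm

/-- The matrix. -/
def eMat (B : LinearMap.BilinForm F (ι → F)) (a v : ι → F) (t : F) : Matrix ι ι F :=
  1 + Matrix.vecMulVec v (cov B a) + Matrix.vecMulVec a (cov B v + t • cov B a)

/-- The element. -/
noncomputable def el (B : LinearMap.BilinForm F (ι → F)) (a v : ι → F) (t : F) : GL ι F := toGL (eMat B a v t)

theorem eMat_mulVec (a v x : ι → F) (t : F) :
    eMat B a v t *ᵥ x = x + B a x • v + (B v x + t * B a x) • a := by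
  funext i
  simp [eMat, Matrix.add_mulVec, Matrix.vecMulVec_mulVec, add_dotProduct, smul_dotProduct, cov_dot, mul_comm]

variable (S : Sympl B)
include S

theorem el_val {a v : ι → F} (h : B a v = 0) (t : F) : (el B a v t).val = eMat B a v t := by
  refine toGL_val (M' := eMat B a v t) (mat_ext fun x => ?_)
  rw [← Matrix.mulVec_mulVec, Matrix.one_mulVec]
  simp only [eMat_mulVec, map_add, map_smul, smul_eq_mul, S.self, S.symm v a, h, mul_zero, add_zero]
  match_scalars <;> ring_nf <;> simp [CharTwo.two_eq_zero]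

theorem el_act {a v : ι → F} (h : B a v = 0) (t : F) (x : ι → F) :
    (el B a v t).val *ᵥ x = x + B a x • v + (B v x + t * B a x) • a := by rw [el_val S h, eMat_mulVec]

theorem el_mul {a v v' : ι → F} (h : B a v = 0) (h' : B a v' = 0) (t t' : F) :
    el B a v t * el B a v' t' = el B a (v + v') (t + t' + B v v') := by
  refine gl_ext fun x => ?_
  rw [mul_act, el_act S h', el_act S h, el_act S (by rw [map_add, h, h', add_zero])]
  simp only [map_add, map_smul, LinearMap.add_apply, smul_eq_mul, S.self, h', S.symm v a, h, mul_zero, add_zero]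
  match_scalars <;> ring

theorem el_zero (a : ι → F) : el B a 0 (0 : F) = 1 := by
  refine gl_ext fun x => ?_
  rw [el_act S (map_zero _), Units.val_one, Matrix.one_mulVec]
  simp

theorem el_sq {a v : ι → F} (h : B a v = 0) (t : F) : el B a v t * el B a v t = 1 := by
  rw [el_mul S h h, vadd_self, CharTwo.add_self_eq_zero, S.self, add_zero, el_zero S]

theorem el_preserves {a v : ι → F} (h : B a v = 0) (t : F) (x y : ι → F) :
    B ((el B a v t).val *ᵥ x) ((el B a v t).val *ᵥ y) = B x y := by
  rw [el_act S h, el_act S h]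
  simp only [map_add, map_smul, LinearMap.add_apply, LinearMap.smul_apply, smul_eq_mul, S.self, S.symm v a, h,
    S.symm x a, S.symm x v]
  ring_nf
  simp [CharTwo.two_eq_zero]

theorem el_smul (c : F) {a v : ι → F} (h : B a v = 0) (t : F) :
    el B (c • a) v t = el B a (c • v) (c ^ 2 * t) := by
  refine gl_ext fun x => ?_
  rw [el_act S (by simp [h]), el_act S (by simp [h])]
  simp only [map_smul, LinearMap.smul_apply, smul_eq_mul]
  match_scalars <;> ring

theorem el_add_self {a v : ι → F} (h : B a v = 0) (k t : F) : el B a (v + k • a) t = el B a v t := by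
  refine gl_ext fun x => ?_
  rw [el_act S (by simp [h, S.self]), el_act S h]
  simp only [map_add, map_smul, LinearMap.add_apply, LinearMap.smul_apply, smul_eq_mul]
  match_scalars <;> ring_nf <;> simp [CharTwo.two_eq_zero]

theorem el_zero_smul (c : F) (a : ι → F) : el B (c • a) 0 (1 : F) = el B a 0 (c ^ 2) := by
  rw [el_smul S c (map_zero _), smul_zero, mul_one]

theorem act_fix {g : GL ι F} (hg : ∀ u v, B (g.val *ᵥ u) (g.val *ᵥ v) = B u v) (u x : ι → F) :
    B (g.val *ᵥ u) x = B u ((g⁻¹ : GL ι F).val *ᵥ x) := by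
  conv_lhs => rw [← act_inv g x]
  exact hg _ _

theorem el_conj {g : GL ι F} (hg : ∀ u v, B (g.val *ᵥ u) (g.val *ᵥ v) = B u v) {a v : ι → F} (h : B a v = 0) (t : F) :
    g * el B a v t * g⁻¹ = el B (g.val *ᵥ a) (g.val *ᵥ v) t := by
  refine gl_ext fun x => ?_
  rw [mul_act, mul_act, el_act S h, el_act S (by rw [hg, h]), act_fix S hg, act_fix S hg]
  simp only [Matrix.mulVec_add, Matrix.mulVec_smul, act_inv]

omit S

/-- A group of isometries acting irreducibly. -/
structure Irr (B : LinearMap.BilinForm F (ι → F)) (L : Subgroup (GL ι F)) : Prop where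
  sympl : Sympl B
  pres : ∀ g ∈ L, ∀ u v, B (g.val *ᵥ u) (g.val *ᵥ v) = B u v
  irr : ∀ W : Submodule F (ι → F), (∀ g ∈ L, ∀ w ∈ W, g.val *ᵥ w ∈ W) → W = ⊥ ∨ W = ⊤

/-- The root group at `d` is represented in full. -/
def Full (B : LinearMap.BilinForm F (ι → F)) (L : Subgroup (GL ι F)) (d : ι → F) : Prop :=
  ∀ v, B d v = 0 → ∃ t, el B d v t ∈ L

/-- The vectors proportional to an image of `a`. -/
def InD (L : Subgroup (GL ι F)) (a u : ι → F) : Prop := ∃ g ∈ L, ∃ c : F, c ≠ 0 ∧ c • (g.val *ᵥ a) = u

variable {L : Subgroup (GL ι F)} (C : Irr B L) {a : ι → F}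
include C

theorem InD.self : InD L a a := ⟨1, one_mem L, 1, one_ne_zero, by simp⟩

omit C in
theorem InD.smul {u : ι → F} (h : InD L a u) {c : F} (hc : c ≠ 0) : InD L a (c • u) := by
  obtain ⟨g, hg, e, he, rfl⟩ := h
  exact ⟨g, hg, c * e, mul_ne_zero hc he, mul_smul c e _⟩

omit C in
theorem InD.act {u : ι → F} (h : InD L a u) {g : GL ι F} (hg : g ∈ L) : InD L a (g.val *ᵥ u) := by
  obtain ⟨k, hk, e, he, rfl⟩ := h
  exact ⟨g * k, mul_mem hg hk, e, he, by rw [mul_act, Matrix.mulVec_smul]⟩

omit C in
theorem InD.of_act {u : ι → F} {g : GL ι F} (hg : g ∈ L) (h : InD L a (g.val *ᵥ u)) : InD L a u := by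
  have := h.act (inv_mem hg)
  rwa [inv_act] at this

omit C in
theorem InD.ne_zero {u : ι → F} (h : InD L a u) (ha : a ≠ 0) : u ≠ 0 := by
  obtain ⟨g, -, e, he, rfl⟩ := h
  exact smul_ne_zero he (Orth.act_ne_zero ha)

/-- An invariant set of vectors orthogonal to `a` consists of zero. -/
theorem eq_zero_of_invariant (ha : a ≠ 0) (P : (ι → F) → Prop) (hP : ∀ g ∈ L, ∀ u, P u → P (g.val *ᵥ u))
    (hPa : ∀ u, P u → B a u = 0) {u : ι → F} (hu : P u) : u = 0 := by
  rcases C.irr (Submodule.span F {x | P x}) (fun g hg w hw => by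
    induction hw using Submodule.span_induction with
    | mem x hx => exact Submodule.subset_span (hP g hg x hx)
    | zero => rw [Matrix.mulVec_zero]; exact zero_mem _
    | add x y _ _ hx hy => rw [Matrix.mulVec_add]; exact add_mem hx hy
    | smul c x _ hx => rw [Matrix.mulVec_smul]; exact Submodule.smul_mem _ c hx) with h | h
  · exact (Submodule.mem_bot F).1 (h ▸ Submodule.subset_span hu)
  · refine absurd (C.sympl.nondeg a fun x => ?_) ha
    have hx : x ∈ Submodule.span F {x | P x} := h ▸ Submodule.mem_top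
    rw [C.sympl.symm]
    induction hx using Submodule.span_induction with
    | mem y hy => exact hPa y hy
    | zero => exact map_zero _
    | add y z _ _ hy hz => rw [map_add, hy, hz, add_zero]
    | smul c y _ hy => rw [map_smul, hy, smul_zero]

theorem exists_inD_nonperp (ha : a ≠ 0) : ∃ b, InD L a b ∧ B a b = 1 := by
  by_contra hno
  push Not at hno
  refine ha (eq_zero_of_invariant C ha (InD L a) (fun g hg u hu => hu.act hg) (fun u hu => ?_) (InD.self C))
  by_contra h
  exact hno _ (hu.smul (inv_ne_zero h)) (by rw [map_smul, smul_eq_mul, inv_mul_cancel₀ h])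

theorem Full.of_inD (h : Full B L a) {d : ι → F} (hd : InD L a d) : Full B L d := by
  obtain ⟨g, hg, c, hc, rfl⟩ := hd
  intro v hv
  have hp := C.pres g hg
  have hv' : B a (c • ((g⁻¹ : GL ι F).val *ᵥ v)) = 0 := by
    have : B (g.val *ᵥ a) v = 0 := by simpa [hc] using hv
    rw [map_smul, ← act_fix C.sympl hp, this, smul_zero]
  obtain ⟨t, ht⟩ := h _ hv'
  refine ⟨t / c ^ 2, ?_⟩
  rw [el_smul C.sympl c (by simpa [hc] using hv), mul_div_cancel₀ _ (pow_ne_zero 2 hc)]
  have := mul_mem (mul_mem hg ht) (inv_mem hg)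
  rwa [el_conj C.sympl hp hv', Matrix.mulVec_smul, act_inv] at this

omit C

/-! ### Frames -/

/-- The orthogonal space of a hyperbolic pair. -/
def InW (B : LinearMap.BilinForm F (ι → F)) (a b u : ι → F) : Prop := B a u = 0 ∧ B b u = 0

/-- A vector in coordinates. -/
def vec (a b : ι → F) (γ : F) (w : ι → F) (α : F) : ι → F := γ • b + w + α • a

theorem vec_swap (a b : ι → F) (γ : F) (w : ι → F) (α : F) : vec a b γ w α = vec b a α w γ := by
  simp only [vec]; abel

theorem smul_vec (a b : ι → F) (c γ : F) (w : ι → F) (α : F) :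
    c • vec a b γ w α = vec a b (c * γ) (c • w) (c * α) := by
  simp only [vec, smul_add, smul_smul]

variable {b : ι → F}
include S

theorem InW.zero : InW B a b 0 := ⟨map_zero _, map_zero _⟩

omit S in
theorem InW.add {u v : ι → F} (h : InW B a b u) (h' : InW B a b v) : InW B a b (u + v) :=
  ⟨by rw [map_add, h.1, h'.1, add_zero], by rw [map_add, h.2, h'.2, add_zero]⟩

omit S in
theorem InW.smul {u : ι → F} (h : InW B a b u) (c : F) : InW B a b (c • u) :=
  ⟨by rw [map_smul, h.1, smul_zero], by rw [map_smul, h.2, smul_zero]⟩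

omit S in
theorem InW.swap {u : ι → F} (h : InW B a b u) : InW B b a u := ⟨h.2, h.1⟩

variable (hab : B a b = 1)
include hab

theorem co_left {w : ι → F} (hw : InW B a b w) (γ α : F) : B a (vec a b γ w α) = γ := by
  simp [vec, hab, S.self, hw.1]

theorem co_right {w : ι → F} (hw : InW B a b w) (γ α : F) : B b (vec a b γ w α) = α := by
  simp [vec, S.symm b a, hab, S.self, hw.2]

theorem co_W {v : ι → F} (hv : InW B a b v) (γ : F) (w : ι → F) (α : F) :
    B v (vec a b γ w α) = B v w := by
  simp [vec, S.symm v a, S.symm v b, hv.1, hv.2]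

theorem vec_pair {w w' : ι → F} (hw : InW B a b w) (hw' : InW B a b w') (γ α γ' α' : F) :
    B (vec a b γ w α) (vec a b γ' w' α') = γ * α' + B w w' + α * γ' := by
  conv_lhs => rw [vec]
  simp only [map_add, map_smul, LinearMap.add_apply, LinearMap.smul_apply, smul_eq_mul,
    co_left S hab hw', co_right S hab hw', co_W S hab hw]

/-- The component in the orthogonal space of the pair. -/
theorem exists_vec (u : ι → F) : ∃ w, InW B a b w ∧ u = vec a b (B a u) w (B b u) := by
  refine ⟨u + B a u • b + B b u • a, ⟨?_, ?_⟩, ?_⟩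
  · simp [S.self, hab, CharTwo.add_self_eq_zero]
  · simp [S.self, S.symm b a, hab, CharTwo.add_self_eq_zero]
  · simp only [vec]
    match_scalars <;> ring_nf <;> simp [CharTwo.two_eq_zero]

theorem el_vec {v w : ι → F} (hv : InW B a b v) (hw : InW B a b w) (t γ α : F) :
    (el B a v t).val *ᵥ vec a b γ w α = vec a b γ (w + γ • v) (α + B v w + t * γ) := by
  rw [el_act S hv.1, co_left S hab hw, co_W S hab hv]
  simp only [vec]
  match_scalars <;> ring

theorem el_vec' {v w : ι → F} (hv : InW B a b v) (hw : InW B a b w) (t γ α : F) :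
    (el B b v t).val *ᵥ vec a b γ w α = vec a b (γ + B v w + t * α) (w + α • v) α := by
  rw [vec_swap a b, vec_swap a b, el_vec S (by rw [S.symm]; exact hab) hv.swap hw.swap]

omit hab

/-- Two independent vectors are separated by the form. -/
theorem exists_sep {d u : ι → F} (hu : ∀ c : F, u ≠ c • d) : ∃ x, B d x = 0 ∧ B u x = 1 := by
  by_contra hno
  push Not at hno
  have hker : ∀ x, B d x = 0 → B u x = 0 := fun x hx => by
    by_contra h
    exact hno ((B u x)⁻¹ • x) (by simp [hx]) (by simp [h])
  by_cases hd : ∀ x, B d x = 0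
  · exact hu 0 (by rw [zero_smul]; exact S.nondeg u fun x => by rw [S.symm]; exact hker x (hd x))
  push Not at hd
  obtain ⟨y, hy⟩ := hd
  refine hu (B u y * (B d y)⁻¹) (eq_of_vadd (S.nondeg _ fun x => ?_))
  have h1 := hker (x + (B d x * (B d y)⁻¹) • y) (by simp [hy, CharTwo.add_self_eq_zero])
  simp only [map_add, map_smul, smul_eq_mul] at h1
  simp only [map_add, map_smul, LinearMap.add_apply, LinearMap.smul_apply, smul_eq_mul]
  rw [S.symm x u, S.symm x d]
  linear_combination h1

include hab

theorem exists_dualW {v : ι → F} (hv : InW B a b v) (hv0 : v ≠ 0) : ∃ w, InW B a b w ∧ B v w = 1 := by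
  obtain ⟨x, -, hx⟩ := exists_sep S (d := 0) (u := v) (fun c => by simpa using hv0)
  obtain ⟨w, hw, e⟩ := exists_vec S hab x
  exact ⟨w, hw, by rw [e, co_W S hab hv] at hx; exact hx⟩

theorem exists_sepW {v v' : ι → F} (hv : InW B a b v) (hv' : InW B a b v') (h : ∀ c : F, v' ≠ c • v) :
    ∃ w, InW B a b w ∧ B v w = 0 ∧ B v' w = 1 := by
  obtain ⟨x, hx, hx'⟩ := exists_sep S h
  obtain ⟨w, hw, e⟩ := exists_vec S hab x
  rw [e, co_W S hab hv] at hx
  rw [e, co_W S hab hv'] at hx'
  exact ⟨w, hw, hx, hx'⟩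

end Cfsg.Lib.Linear.TransvX
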