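import Cfsg.Agent.Lib.Linear.TransvX.Transv

/-!
# Without transvections the orbit of the point lies on a quadric
-/

set_option autoImplicit false
set_option linter.unusedSectionVars false

namespace Cfsg.Lib.Linear.TransvX

open Module
open scoped Matrix
open Cfsg.Lib.Linear.Orth (gl_ext mul_act inv_act act_inv exists_sqrt_two)

variable {ι : Type} [Fintype ι] [DecidableEq ι] {F : Type*} [Field F] [CharP F 2]
  {B : LinearMap.BilinForm F (ι → F)} {L : Subgroup (GL ι F)} {a b : ι → F}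

/-- The hypotheses: full root groups, no transvection at `a`, a partner of `a`. -/
structure NoT (B : LinearMap.BilinForm F (ι → F)) (L : Subgroup (GL ι F)) (a : ι → F) : Prop where
  ctx : Irr B L
  ne : a ≠ 0
  full : Full B L a
  noT : ∀ t : F, el B a 0 t ∈ L → t = 0
  dim : 3 ≤ Fintype.card ι

/-- The parameter at `d`. -/
noncomputable def phi (B : LinearMap.BilinForm F (ι → F)) (L : Subgroup (GL ι F)) (d v : ι → F) : F :=
  Classical.epsilon fun t => el B d v t ∈ L

variable (H : NoT B L a)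
include H

theorem NoT.sympl : Sympl B := H.ctx.sympl

theorem phi_mem {d v : ι → F} (hd : InD L a d) (hv : B d v = 0) : el B d v (phi B L d v) ∈ L :=
  Classical.epsilon_spec (Full.of_inD H.ctx H.full hd v hv)

theorem noT_at {d : ι → F} (hd : InD L a d) {t : F} (ht : el B d 0 t ∈ L) : t = 0 := by
  obtain ⟨g, hg, c, hc, rfl⟩ := hd
  rw [el_smul H.sympl c (map_zero _), smul_zero] at ht
  have h := mul_mem (mul_mem (inv_mem hg) ht) hg
  have e := el_conj H.sympl (H.ctx.pres g⁻¹ (inv_mem hg)) (map_zero (B (g.val *ᵥ a))) (c ^ 2 * t)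
  rw [inv_inv] at e
  rw [e, inv_act, Matrix.mulVec_zero] at h
  exact (mul_eq_zero.1 (H.noT _ h)).resolve_left (pow_ne_zero 2 hc)

theorem phi_eq {d v : ι → F} (hd : InD L a d) (hv : B d v = 0) {t : F} (ht : el B d v t ∈ L) : phi B L d v = t := by
  have h := mul_mem (phi_mem H hd hv) ht
  rw [el_mul H.sympl hv hv, vadd_self, H.sympl.self, add_zero] at h
  exact CharTwo.add_eq_zero.1 (noT_at H hd h)

theorem rootFun {d : ι → F} (hd : InD L a d) : RootFun B L d (phi B L d) where
  mem v hv := phi_mem H hd hv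
  add u v hu hv := by
    refine phi_eq H hd (by rw [map_add, hu, hv, add_zero]) ?_
    rw [← el_mul H.sympl hu hv]
    exact mul_mem (phi_mem H hd hu) (phi_mem H hd hv)

theorem phi_zero {d : ι → F} (hd : InD L a d) : phi B L d 0 = 0 := (rootFun H hd).zero H.sympl

/-- Adding a multiple of a vector orthogonal to itself and the point. -/
theorem phi_line_add {d v : ι → F} (hd : InD L a d) (hv : B d v = 0) (x y : F) :
    phi B L d ((x + y) • v) = phi B L d (x • v) + phi B L d (y • v) := by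
  rw [add_smul, (rootFun H hd).add _ _ (by simp [hv]) (by simp [hv])]
  simp [H.sympl.self]

/-- No vector of the orbit of `b + k a`, `k ≠ 0`. -/
def K0 (L : Subgroup (GL ι F)) (a x y : ι → F) : Prop := ∀ k : F, InD L a (y + k • x) → k = 0

omit H in
theorem K0.symm {x y : ι → F} (h : K0 L a x y) : K0 L a y x := by
  intro k hk
  by_contra hk0
  refine inv_ne_zero hk0 (h k⁻¹ ?_)
  have := hk.smul (inv_ne_zero hk0)
  rwa [smul_add, inv_smul_smul₀ hk0, add_comm] at this

variable {x y : ι → F} (hx : InD L a x) (hxy : B x y = 1)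
include hx hxy

/-- The offset of a point of the orbit. -/
theorem offset {γ : F} (hγ : γ ≠ 0) {w : ι → F} (hw : InW B x y w) {α : F} (h : InD L a (vec x y γ w α)) :
    InD L a (y + (α * γ⁻¹ + phi B L x (γ⁻¹ • w)) • x) := by
  have h' := (h.act (phi_mem H hx (hw.smul γ⁻¹).1)).smul (inv_ne_zero hγ)
  rw [el_vec H.sympl hxy (hw.smul _) hw, smul_inv_smul₀ hγ, vadd_self, map_smul, LinearMap.smul_apply,
    H.sympl.self, smul_zero, add_zero, smul_vec, inv_mul_cancel₀ hγ, smul_zero] at h'
  convert h' using 1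
  simp only [vec, one_smul, add_zero]
  congr 2
  field_simp

/-- The translate of `y + k x`. -/
theorem orbit_pt {v : ι → F} (hv : InW B x y v) {k : F} (hk : InD L a (y + k • x)) :
    InD L a (vec x y 1 v (k + phi B L x v)) := by
  have h := hk.act (phi_mem H hx hv.1)
  rwa [show y + k • x = vec x y 1 0 k by simp [vec], el_vec H.sympl hxy hv (InW.zero H.sympl), zero_add,
    one_smul, map_zero, add_zero, mul_one] at h

variable (hy : InD L a y)
include hy

/-- The image of the translate under the root group at `y`. -/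
theorem push {v w : ι → F} (hv : InW B x y v) (hw : InW B x y w) {k : F} (hk : InD L a (y + k • x)) :
    InD L a (vec x y (1 + B w v + phi B L y w * (k + phi B L x v)) (v + (k + phi B L x v) • w)
      (k + phi B L x v)) := by
  have h := (orbit_pt H hx hxy hv hk).act (phi_mem H hy hw.2)
  rwa [el_vec' H.sympl hxy hw hv] at h

/-- Without orbit points orthogonal to `x` the offsets vanish. -/
theorem K0_of_no_perp [Fintype F]
    (hU : ∀ u, InW B x y u → u ≠ 0 → ∀ α : F, ¬ InD L a (vec x y 0 u α)) : K0 L a x y := by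
  have hne : ∀ v, InW B x y v → v ≠ 0 → ∀ k, InD L a (y + k • x) → phi B L x v ≠ k := by
    intro v hv hv0 k hk e
    obtain ⟨w, hw, h1⟩ := exists_dualW H.sympl hxy hv hv0
    have h := push H hx hxy hy hv hw hk
    rw [e, CharTwo.add_self_eq_zero, H.sympl.symm w v, h1, mul_zero, zero_smul, add_zero, add_zero,
      CharTwo.add_self_eq_zero] at h
    exact hU v hv hv0 0 h
  intro k hk
  obtain ⟨u, hu, hu0⟩ := exists_W_ne H.sympl hxy H.dim
  let f : F →+ F := AddMonoidHom.mk' (fun z => phi B L x (z • u)) (fun p q => phi_line_add H hx hu.1 p q)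
  have hinj : Function.Injective f := (injective_iff_map_eq_zero f).2 fun z hz => by
    by_contra h0
    exact hne _ (hu.smul z) (smul_ne_zero h0 hu0) 0 (by rw [zero_smul, add_zero]; exact hy) hz
  obtain ⟨z, hz⟩ := Finite.injective_iff_surjective.1 hinj k
  by_contra hk0
  refine hne _ (hu.smul z) (smul_ne_zero (fun e => hk0 ?_) hu0) k hk hz
  rw [← hz, e, map_zero]

omit hxy hy hx

/-- Orthogonal independent points of the orbit give a Siegel element. -/
theorem phi_pair (hq : ∃ c : F, c ≠ 0 ∧ c ≠ 1) {d u : ι → F} (hd : InD L a d) (hu : InD L a u) (h : B d u = 0)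
    (hind : ∀ c : F, u ≠ c • d) : phi B L d u = 0 := by
  have hd0 : d ≠ 0 := hd.ne_zero H.ne
  have hu0 : u ≠ 0 := hu.ne_zero H.ne
  obtain ⟨v, hv, hv1⟩ := exists_sep H.sympl hind
  obtain ⟨v', hv', hv1'⟩ := exists_sep H.sympl (d := u) (u := d) fun c e => by
    rcases eq_or_ne c 0 with rfl | hc
    · exact hd0 (by rw [e, zero_smul])
    · exact hind c⁻¹ (by rw [e, inv_smul_smul₀ hc])
  -- the transvections of the line
  have hX : ∀ c : F, ∃ g ∈ L, g.val *ᵥ d = d ∧ g.val *ᵥ u = u + c • d := by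
    intro c
    have hcv : B d (c • v) = 0 := by simp [hv]
    refine ⟨_, phi_mem H hd hcv, ?_, ?_⟩
    · rw [el_act H.sympl hcv]; simp [H.sympl.self, H.sympl.symm v d, hv]
    · rw [el_act H.sympl hcv]; simp [h, H.sympl.symm v u, hv1]
  have hY : ∀ c : F, ∃ g ∈ L, g.val *ᵥ u = u ∧ g.val *ᵥ d = d + c • u := by
    intro c
    have hcv : B u (c • v') = 0 := by simp [hv']
    refine ⟨_, phi_mem H hu hcv, ?_, ?_⟩
    · rw [el_act H.sympl hcv]; simp [H.sympl.self, H.sympl.symm v' u, hv']
    · rw [el_act H.sympl hcv]; simp [H.sympl.symm u d, h, H.sympl.symm v' d, hv1']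
  have hW : ∀ c : F, c ≠ 0 → ∃ g ∈ L, g.val *ᵥ d = c⁻¹ • u ∧ g.val *ᵥ u = c • d := by
    intro c hc
    obtain ⟨p, hp, hpd, hpu⟩ := hX c
    obtain ⟨r, hr, hru, hrd⟩ := hY c⁻¹
    refine ⟨p * r * p, mul_mem (mul_mem hp hr) hp, ?_, ?_⟩
    · rw [mul_act, hpd, mul_act, hrd, Matrix.mulVec_add, Matrix.mulVec_smul, hpd, hpu, smul_add,
        inv_smul_smul₀ hc, add_left_comm, vadd_self, add_zero]
    · rw [mul_act, hpu, mul_act, Matrix.mulVec_add, Matrix.mulVec_smul, hru, hrd, smul_add, smul_inv_smul₀ hc]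
      simp only [Matrix.mulVec_add, Matrix.mulVec_smul, hpd, hpu]
      rw [add_comm (c • d), ← add_assoc, vadd_self, zero_add]
  obtain ⟨c, hc0, hc1⟩ := hq
  obtain ⟨g₁, hg₁, hg₁d, hg₁u⟩ := hW 1 one_ne_zero
  obtain ⟨g₂, hg₂, hg₂d, hg₂u⟩ := hW c hc0
  have hgd : (g₁ * g₂).val *ᵥ d = c⁻¹ • d := by
    rw [mul_act, hg₂d, Matrix.mulVec_smul, hg₁u, one_smul]
  have hgu : (g₁ * g₂).val *ᵥ u = c • u := by
    rw [mul_act, hg₂u, Matrix.mulVec_smul, hg₁d, inv_one, one_smul]
  have hm := mul_mem (mul_mem (mul_mem hg₁ hg₂) (phi_mem H hd h)) (inv_mem (mul_mem hg₁ hg₂))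
  rw [el_conj H.sympl (H.ctx.pres _ (mul_mem hg₁ hg₂)) h, hgd, hgu, el_smul H.sympl c⁻¹ (by simp [h]),
    inv_smul_smul₀ hc0] at hm
  have he := phi_eq H hd h hm
  by_contra hne
  have h1 : (c⁻¹ + 1) ^ 2 = 0 := by
    rw [CharTwo.add_sq, one_pow]
    have h2 : phi B L d u * ((c⁻¹) ^ 2 + 1) = 0 := by
      linear_combination he + ((c⁻¹) ^ 2 * phi B L d u) * (CharTwo.two_eq_zero (R := F))
    exact (mul_eq_zero.1 h2).resolve_left hne
  refine hc1 ?_
  have := CharTwo.add_eq_zero.1 (pow_eq_zero_iff two_ne_zero |>.1 h1)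
  rwa [inv_eq_one] at this

include hx hxy hy

/-- More than two scalars: the offsets vanish. -/
theorem K0_of_scalar [Fintype F] (hq : ∃ c : F, c ≠ 0 ∧ c ≠ 1) : K0 L a x y := by
  by_cases hU : ∀ u, InW B x y u → u ≠ 0 → ∀ α : F, ¬ InD L a (vec x y 0 u α)
  · exact K0_of_no_perp H hx hxy hy hU
  push Not at hU
  obtain ⟨u, hu, hu0, α₀, hα₀⟩ := hU
  have hyx : B y x = 1 := by rw [H.sympl.symm]; exact hxy
  have hall : ∀ {u : ι → F}, InW B x y u → u ≠ 0 → ∀ {α : F}, InD L a (vec x y 0 u α) → ∀ r : F,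
      InD L a (vec x y 0 u r) := by
    intro u hu hu0 α h r
    obtain ⟨w, hw, h1⟩ := exists_dualW H.sympl hxy hu hu0
    have h' := h.act (phi_mem H hx (hw.smul (r + α)).1)
    rwa [el_vec H.sympl hxy (hw.smul _) hu, zero_smul, add_zero, map_smul, LinearMap.smul_apply, smul_eq_mul,
      H.sympl.symm w u, h1, mul_one, mul_zero, add_zero, ← add_assoc, add_comm α r, add_assoc,
      CharTwo.add_self_eq_zero, add_zero] at h'
  have hind : ∀ {z d' d'' : ι → F}, InW B x y z → z ≠ 0 → B d'' z = 0 → B d'' d' ≠ 0 → ∀ c : F, z ≠ c • d' := by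
    intro z d' d'' _ hz0 h0 h1 c e
    rw [e, map_smul, smul_eq_mul] at h0
    rcases mul_eq_zero.1 h0 with h | h
    · exact hz0 (by rw [e, h, zero_smul])
    · exact h1 h
  have hzero : ∀ {u : ι → F}, InW B x y u → u ≠ 0 → ∀ {α : F}, InD L a (vec x y 0 u α) →
      phi B L x u = 0 ∧ phi B L y u = 0 := by
    intro u hu hu0 α h
    have h0 : InD L a u := by have := hall hu hu0 h 0; simpa [vec] using this
    exact ⟨phi_pair H hq hx h0 hu.1 (hind hu hu0 hu.2 (by rw [hyx]; exact one_ne_zero)),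
      phi_pair H hq hy h0 hu.2 (hind hu hu0 hu.1 (by rw [hxy]; exact one_ne_zero))⟩
  obtain ⟨hφu, hψu⟩ := hzero hu hu0 hα₀
  obtain ⟨w₀, hw₀, h1⟩ := exists_dualW H.sympl hxy hu hu0
  -- move to a dual vector with parameter one
  set z := phi B L y w₀ + 1 with hz
  have hw : InW B x y (w₀ + z • u) := hw₀.add (hu.smul z)
  have hψz : phi B L y (z • u) = 0 := by
    rcases eq_or_ne z 0 with h | h
    · rw [h, zero_smul, phi_zero H hy]
    · refine (hzero (hu.smul z) (smul_ne_zero h hu0) (α := z * α₀) ?_).2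
      have := hα₀.smul h
      rwa [smul_vec, mul_zero] at this
  have hψw : phi B L y (w₀ + z • u) = 1 := by
    rw [(rootFun H hy).add _ _ hw₀.2 (hu.smul z).2, hψz, map_smul, smul_eq_mul, H.sympl.symm w₀ u, h1, mul_one,
      add_zero, hz, ← add_assoc, CharTwo.add_self_eq_zero, zero_add]
  have hBuw : B u (w₀ + z • u) = 1 := by rw [map_add, h1, map_smul, H.sympl.self, smul_zero, add_zero]
  have hnew : InD L a (vec x y 0 (u + (w₀ + z • u)) 1) := by
    have h := (hall hu hu0 hα₀ 1).act (phi_mem H hy hw.2)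
    rwa [el_vec' H.sympl hxy hw hu, hψw, H.sympl.symm (w₀ + z • u) u, hBuw, zero_add, one_mul,
      CharTwo.add_self_eq_zero, one_smul] at h
  set w := u + (w₀ + z • u) with hwdef
  have hwW : InW B x y w := hu.add hw
  have hBw : B u w = 1 := by rw [hwdef, map_add, H.sympl.self, zero_add, hBuw]
  have hw0 : w ≠ 0 := fun e => by rw [e, map_zero] at hBw; exact zero_ne_one hBw
  obtain ⟨hφw, hψw'⟩ := hzero hwW hw0 hnew
  intro k hk
  by_contra hk0
  have h := push H hx hxy hy hu hwW hk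
  rw [hψw', zero_mul, add_zero, H.sympl.symm w u, hBw, CharTwo.add_self_eq_zero, hφu, add_zero] at h
  have hne : u + k • w ≠ 0 := fun e => by
    have := congrArg (B u) e
    rw [map_add, H.sympl.self, map_smul, hBw, smul_eq_mul, mul_one, zero_add, map_zero] at this
    exact hk0 this
  have h' := (hzero (hu.add (hwW.smul k)) hne h).1
  have hφkw : phi B L x (k • w) = 0 := by
    refine (hzero (hwW.smul k) (smul_ne_zero hk0 hw0) (α := k * 1) ?_).1
    have := hnew.smul hk0
    rwa [smul_vec, mul_zero] at this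
  rw [(rootFun H hx).add _ _ hu.1 (hwW.smul k).1, hφu, hφkw, map_smul, hBw, smul_eq_mul, mul_one, zero_add,
    zero_add] at h'
  exact hk0 h'

end Cfsg.Lib.Linear.TransvX
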