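import Cfsg.Agent.Lib.Linear.TransvX.Offsets

/-!
# The quadratic form from vanishing offsets
-/

set_option autoImplicit false
set_option linter.unusedSectionVars false

namespace Cfsg.Lib.Linear.TransvX

open Module
open scoped Matrix
open Cfsg.Lib.Linear.Orth (gl_ext mul_act inv_act act_inv exists_sqrt_two)

variable {ι : Type} [Fintype ι] [DecidableEq ι] {F : Type*} [Field F] [CharP F 2]
  {B : LinearMap.BilinForm F (ι → F)} {L : Subgroup (GL ι F)} {a : ι → F}

/-- A frame of two orbit points with vanishing offsets. -/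
structure QFrame (B : LinearMap.BilinForm F (ι → F)) (L : Subgroup (GL ι F)) (a x y : ι → F) : Prop where
  noT : NoT B L a
  left : InD L a x
  right : InD L a y
  pair : B x y = 1
  k0 : K0 L a x y

variable {x y : ι → F}

theorem QFrame.swap (Q : QFrame B L a x y) : QFrame B L a y x :=
  ⟨Q.noT, Q.right, Q.left, by rw [Q.noT.sympl.symm]; exact Q.pair, Q.k0.symm⟩

variable (P : QFrame B L a x y)
include P

/-- An orbit point off the polar hyperplane has offset zero. -/
theorem QFrame.sing {γ : F} (hγ : γ ≠ 0) {w : ι → F} (hw : InW B x y w) {α : F}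
    (h : InD L a (vec x y γ w α)) : α * γ⁻¹ = phi B L x (γ⁻¹ • w) :=
  CharTwo.add_eq_zero.1 (P.k0 _ (offset P.noT P.left P.pair hγ hw h))

theorem QFrame.orbit {v : ι → F} (hv : InW B x y v) : InD L a (vec x y 1 v (phi B L x v)) := by
  have h := orbit_pt P.noT P.left P.pair hv (k := 0) (by rw [zero_smul, add_zero]; exact P.right)
  rwa [zero_add] at h

theorem QFrame.push' {v w : ι → F} (hv : InW B x y v) (hw : InW B x y w) :
    InD L a (vec x y (1 + B w v + phi B L y w * phi B L x v) (v + phi B L x v • w) (phi B L x v)) := by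
  have h := push P.noT P.left P.pair P.right hv hw (k := 0) (by rw [zero_smul, add_zero]; exact P.right)
  simpa only [zero_add] using h

theorem QFrame.psi_inv {v : ι → F} (hv : InW B x y v) (h : phi B L x v ≠ 0) :
    phi B L y ((phi B L x v)⁻¹ • v) = (phi B L x v)⁻¹ := by
  set t := phi B L x v with ht
  have h' := P.push' hv (hv.smul t⁻¹)
  rw [← ht, smul_inv_smul₀ h, vadd_self, map_smul, LinearMap.smul_apply, P.noT.sympl.self, smul_zero,
    add_zero] at h'
  set γ := 1 + phi B L y (t⁻¹ • v) * t with hγ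
  have hγ0 : γ = 0 := by
    by_contra hne
    have := P.sing hne (InW.zero P.noT.sympl) h'
    rw [smul_zero, phi_zero P.noT P.left] at this
    exact mul_ne_zero h (inv_ne_zero hne) this
  rw [hγ] at hγ0
  exact eq_inv_of_mul_eq_one_left (CharTwo.add_eq_zero.1 hγ0).symm

theorem QFrame.line_zero {v : ι → F} (hv : InW B x y v) (hv0 : v ≠ 0) (h : phi B L x v = 0) (c : F) :
    phi B L x (c • v) = 0 := by
  rcases eq_or_ne c 0 with rfl | hc
  · rw [zero_smul, phi_zero P.noT P.left]
  obtain ⟨w, hw, h1⟩ := exists_dualW P.noT.sympl P.pair hv hv0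
  have h' := P.push' hv (hw.smul (1 + c⁻¹))
  rw [h, mul_zero, add_zero, zero_smul, add_zero, map_smul, LinearMap.smul_apply, smul_eq_mul,
    P.noT.sympl.symm w v, h1, mul_one, ← add_assoc, CharTwo.add_self_eq_zero, zero_add] at h'
  have := P.sing (inv_ne_zero hc) hv h'
  rw [zero_mul, inv_inv] at this
  exact this.symm

variable [Fintype F]

theorem QFrame.quad_of_ne {v : ι → F} (hv : InW B x y v) (h : phi B L x v ≠ 0) (c : F) :
    phi B L x (c • v) = c ^ 2 * phi B L x v ∧ phi B L y (c • v) = c ^ 2 * phi B L x v := by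
  classical
  have hyx : InW B y x v := hv.swap
  have hv0 : v ≠ 0 := fun e => h (by rw [e, phi_zero P.noT P.left])
  set t := phi B L x v with ht
  let f : F →+ F := AddMonoidHom.mk' (fun z => phi B L x (z • v)) (fun p q => phi_line_add P.noT P.left hv.1 p q)
  let g : F →+ F := AddMonoidHom.mk' (fun z => phi B L y (z • v)) (fun p q => phi_line_add P.noT P.right hv.2 p q)
  have hf1 : f 1 = t := by show phi B L x ((1 : F) • v) = t; rw [one_smul]
  have hfinj : Function.Injective f := (injective_iff_map_eq_zero f).2 fun z hz => by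
    by_contra h0
    have := P.line_zero (hv.smul z) (smul_ne_zero h0 hv0) hz z⁻¹
    rw [inv_smul_smul₀ h0] at this
    exact h this
  have hginv : ∀ z, f z ≠ 0 → g (z * (f z)⁻¹) = (f z)⁻¹ := by
    intro z hz
    have := P.psi_inv (hv.smul z) hz
    rw [smul_smul, mul_comm] at this
    exact this
  have hg1 : g t⁻¹ = t⁻¹ := by
    have := hginv 1 (by rw [hf1]; exact h)
    rwa [one_mul, hf1] at this
  have hginj : Function.Injective g := (injective_iff_map_eq_zero g).2 fun z hz => by
    by_contra h0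
    have := P.swap.line_zero (hyx.smul z) (smul_ne_zero h0 hv0) hz (t⁻¹ * z⁻¹)
    rw [smul_smul, mul_assoc, inv_mul_cancel₀ h0, mul_one] at this
    exact inv_ne_zero h (hg1.symm.trans this)
  let ef : F ≃+ F := AddEquiv.ofBijective f ⟨hfinj, Finite.injective_iff_surjective.1 hfinj⟩
  -- the inverse of `f`
  set p := ef.symm with hp
  have hfp : ∀ s, f (p s) = s := fun s => ef.apply_symm_apply s
  have hgp : ∀ s, s ≠ 0 → g (p s * s⁻¹) = s⁻¹ := fun s hs => by
    have := hginv (p s) (by rw [hfp]; exact hs)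
    rwa [hfp] at this
  have hpt : p t = 1 := hfinj (by rw [hfp, hf1])
  have hsq : ∀ s, p (s * s) = p 1 * s := by
    intro s
    rcases eq_or_ne s 0 with rfl | hs
    · rw [mul_zero, map_zero, mul_zero]
    rcases eq_or_ne s 1 with rfl | hs1
    · rw [mul_one, mul_one]
    have hs' : s + 1 ≠ 0 := fun e => hs1 (CharTwo.add_eq_zero.1 e)
    have hS : s * s + s ≠ 0 := by
      rw [show s * s + s = s * (s + 1) by ring]; exact mul_ne_zero hs hs'
    have e : p (s * s + s) * (s * s + s)⁻¹ = p s * s⁻¹ + p (s + 1) * (s + 1)⁻¹ := by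
      refine hginj ?_
      rw [map_add g, hgp _ hS, hgp _ hs, hgp _ hs']
      field_simp
      linear_combination -s * (CharTwo.two_eq_zero (R := F))
    rw [map_add, map_add] at e
    have e1 : p (s * s) + p s = p s * (s + 1) + (p s + p 1) * s := by
      rw [(mul_inv_eq_iff_eq_mul₀ hS).1 e, show s * s + s = s * (s + 1) by ring]
      field_simp
    linear_combination e1 + (p s * s) * (CharTwo.two_eq_zero (R := F))
  have hp1 : p 1 ≠ 0 := fun e => one_ne_zero (p.injective (e.trans (map_zero p).symm))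
  have hfz : ∀ z, f z = z ^ 2 * ((p 1)⁻¹) ^ 2 := by
    intro z
    refine p.injective ?_
    rw [show p (f z) = z from ef.symm_apply_apply z, show z ^ 2 * (p 1)⁻¹ ^ 2 = (z * (p 1)⁻¹) * (z * (p 1)⁻¹) by ring,
      hsq]
    field_simp
  have ht' : t = ((p 1)⁻¹) ^ 2 := by rw [← hf1, hfz, one_pow, one_mul]
  refine ⟨(hfz c).trans (by rw [← ht']), ?_⟩
  show g c = c ^ 2 * t
  rcases eq_or_ne c 0 with rfl | hc
  · rw [map_zero]; ring
  have hz := hginv (c⁻¹ * t⁻¹) (by rw [hfz, ← ht']; exact mul_ne_zero (pow_ne_zero 2 (mul_ne_zero (inv_ne_zero hc) (inv_ne_zero h))) h)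
  rw [hfz, ← ht'] at hz
  have hS1 : c⁻¹ * t⁻¹ * ((c⁻¹ * t⁻¹) ^ 2 * t)⁻¹ = c := by field_simp
  have hS2 : ((c⁻¹ * t⁻¹) ^ 2 * t)⁻¹ = c ^ 2 * t := by field_simp
  rw [hS1, hS2] at hz
  exact hz

theorem QFrame.psi_eq {v : ι → F} (hv : InW B x y v) : phi B L y v = phi B L x v := by
  rcases ne_or_eq (phi B L x v) 0 with h | h
  · have := (P.quad_of_ne hv h 1).2
    rwa [one_smul, one_pow, one_mul] at this
  rcases eq_or_ne (phi B L y v) 0 with h' | h'
  · rw [h, h']
  · have := (P.swap.quad_of_ne hv.swap h' 1).2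
    rw [one_smul, one_pow, one_mul] at this
    rw [this]

theorem QFrame.quad {v : ι → F} (hv : InW B x y v) (c : F) : phi B L x (c • v) = c ^ 2 * phi B L x v := by
  rcases ne_or_eq (phi B L x v) 0 with h | h
  · exact (P.quad_of_ne hv h c).1
  rcases eq_or_ne v 0 with rfl | hv0
  · rw [smul_zero, phi_zero P.noT P.left, mul_zero]
  · rw [h, mul_zero, P.line_zero hv hv0 h]

omit [Fintype F]

/-- The form of a frame. -/
noncomputable def qfun (B : LinearMap.BilinForm F (ι → F)) (L : Subgroup (GL ι F)) (x y u : ι → F) : F :=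
  B x u * B y u + phi B L x (u + B x u • y + B y u • x)

theorem QFrame.qfun_vec {w : ι → F} (hw : InW B x y w) (γ α : F) :
    qfun B L x y (vec x y γ w α) = γ * α + phi B L x w := by
  rw [qfun, co_left P.noT.sympl P.pair hw, co_right P.noT.sympl P.pair hw]
  congr 2
  simp only [vec]
  match_scalars <;> ring_nf <;> simp [CharTwo.two_eq_zero]

variable [Fintype F]

theorem QFrame.qfun_smul (c : F) (u : ι → F) : qfun B L x y (c • u) = c ^ 2 * qfun B L x y u := by
  obtain ⟨w, hw, e⟩ := exists_vec P.noT.sympl P.pair u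
  rw [e, smul_vec, P.qfun_vec (hw.smul c), P.qfun_vec hw, P.quad hw]
  ring

theorem QFrame.qfun_add (u v : ι → F) :
    qfun B L x y (u + v) = qfun B L x y u + qfun B L x y v + B u v := by
  obtain ⟨w, hw, e⟩ := exists_vec P.noT.sympl P.pair u
  obtain ⟨w', hw', e'⟩ := exists_vec P.noT.sympl P.pair v
  rw [e, e', vec_pair P.noT.sympl P.pair hw hw', P.qfun_vec hw, P.qfun_vec hw']
  generalize B x u = γ
  generalize B y u = α
  generalize B x v = γ'
  generalize B y v = α'
  rw [show vec x y γ w α + vec x y γ' w' α' = vec x y (γ + γ') (w + w') (α + α') by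
    simp only [vec, add_smul]; abel, P.qfun_vec (hw.add hw'), (rootFun P.noT P.left).add _ _ hw.1 hw'.1]
  ring

/-- The points of the orbit are singular. -/
theorem QFrame.qfun_eq_zero {u : ι → F} (hu : InD L a u) : qfun B L x y u = 0 := by
  obtain ⟨w, hw, e⟩ := exists_vec P.noT.sympl P.pair u
  rw [e] at hu ⊢
  rw [P.qfun_vec hw]
  generalize B x u = γ at *
  generalize B y u = α at *
  rcases ne_or_eq γ 0 with hγ | hγ
  · have h := P.sing hγ hw hu
    rw [P.quad hw] at h
    field_simp at h
    rw [← h]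
    linear_combination (γ * α) * (CharTwo.two_eq_zero (R := F))
  subst hγ
  rw [zero_mul, zero_add]
  rcases eq_or_ne w 0 with rfl | hw0
  · exact phi_zero P.noT P.left
  -- every translate along `x` is in the orbit
  obtain ⟨w₁, hw₁, h1⟩ := exists_dualW P.noT.sympl P.pair hw hw0
  have h := hu.act (phi_mem P.noT P.left (hw₁.smul (1 + α)).1)
  rw [el_vec P.noT.sympl P.pair (hw₁.smul _) hw, zero_smul, add_zero, map_smul, LinearMap.smul_apply, smul_eq_mul,
    P.noT.sympl.symm w₁ w, h1, mul_one, mul_zero, add_zero, add_comm (1 : F) α, ← add_assoc,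
    CharTwo.add_self_eq_zero, zero_add, vec_swap] at h
  have h' := P.swap.sing one_ne_zero hw.swap h
  rw [zero_mul, inv_one, one_smul, P.psi_eq hw] at h'
  exact h'.symm

end Cfsg.Lib.Linear.TransvX
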