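import Mathlib
import Cfsg.Agent.Lib.Linear.SymIndex
import Cfsg.Agent.S5945

/-!
# Subgroups of the symmetric group of degree six of order divisible by sixty
-/

set_option autoImplicit false
set_option linter.unusedSectionVars false

namespace Cfsg.Lib.Linear.TransvX

open Equiv MulAction

theorem orderOf_ne_fifteen (g : Perm (Fin 6)) : orderOf g ≠ 15 := by
  intro h
  have hl : g.cycleType.lcm = 15 := (Perm.lcm_cycleType g).trans h
  have h3 : 3 ∣ g.cycleType.lcm := by rw [hl]; norm_num
  have h5 : 5 ∣ g.cycleType.lcm := by rw [hl]; norm_num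
  have hsum : g.cycleType.sum ≤ 6 := by
    rw [Perm.sum_cycleType]; exact (Finset.card_le_univ _).trans (by simp)
  have hdiv : ∀ {p : ℕ}, p.Prime → p ∣ g.cycleType.lcm → ∃ x ∈ g.cycleType, p ∣ x := by
    intro p hp hd
    by_contra hno
    push Not at hno
    have : ∀ s : Multiset ℕ, (∀ x ∈ s, ¬ p ∣ x) → ¬ p ∣ s.lcm := by
      intro s
      induction s using Multiset.induction with
      | empty => intro _; simpa using hp.ne_one
      | cons x s ih =>
        intro hs hps
        rw [Multiset.lcm_cons] at hps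
        rcases hp.dvd_mul.1 (hps.trans (lcm_dvd_mul _ _)) with h | h
        · exact hs x (Multiset.mem_cons_self _ _) h
        · exact ih (fun y hy => hs y (Multiset.mem_cons_of_mem hy)) h
    exact this _ hno hd
  obtain ⟨x, hx, hx3⟩ := hdiv Nat.prime_three h3
  obtain ⟨y, hy, hy5⟩ := hdiv (by norm_num) h5
  have hx0 := Perm.two_le_of_mem_cycleType hx
  have hy0 := Perm.two_le_of_mem_cycleType hy
  have hxy : x ≠ y := by
    rintro rfl
    have : 15 ∣ x := Nat.Coprime.mul_dvd_of_dvd_of_dvd (by norm_num : Nat.Coprime 3 5) hx3 hy5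
    have := Nat.le_of_dvd (by omega) this
    have := Multiset.single_le_sum (fun _ _ => Nat.zero_le _) x hx
    omega
  have := Nat.le_of_dvd (by omega) hx3
  have := Nat.le_of_dvd (by omega) hy5
  have hle : ({x, y} : Multiset ℕ) ≤ g.cycleType := by
    rw [Multiset.le_iff_subset (by simp [hxy])]
    intro z hz
    simp only [Multiset.insert_eq_cons, Multiset.mem_cons, Multiset.mem_singleton] at hz
    rcases hz with rfl | rfl <;> assumption
  obtain ⟨r, hr⟩ := Multiset.le_iff_exists_add.1 hle
  rw [hr] at hsum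
  simp at hsum
  omega

theorem zmod_five_cube : ∀ z : ZMod 5, z ^ 3 = 1 → z = 1 := by decide

/-- A group of order sixty with a self-normalising abelian Sylow `2`-subgroup has an element of order fifteen. -/
theorem exists_order_fifteen {G : Type*} [Group G] [Finite G] (hG : Nat.card G = 60) (P : Subgroup G)
    (hP : Nat.card P = 4) (hN : ∀ g ∈ Subgroup.normalizer (P : Set G), g ∈ P) :
    ∃ g : G, orderOf g = 15 := by
  haveI : Fact (Nat.Prime 2) := ⟨Nat.prime_two⟩
  have h2 : Nat.card P = 2 ^ (Nat.card G).factorization 2 := by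
    rw [hG, hP]
    have : (60 : ℕ).factorization 2 = 2 := by
      rw [Nat.factorization_def _ Nat.prime_two]
      have : (60 : ℕ) = 2 ^ 2 * 15 := rfl
      rw [this, padicValNat.mul (by norm_num) (by norm_num), padicValNat.prime_pow,
        padicValNat.eq_zero_of_not_dvd (by norm_num)]
    rw [this]; rfl
  let S : Sylow 2 G := Sylow.ofCard P h2
  have hSP : (S : Subgroup G) = P := rfl
  haveI : IsMulCommutative ↥P := IsPGroup.isMulCommutative_of_card_eq_prime_sq (p := 2) hP
  have hle : Subgroup.normalizer ((S : Subgroup G) : Set G) ≤ Subgroup.centralizer ((S : Subgroup G) : Set G) := by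
    intro g hg
    rw [hSP] at hg ⊢
    rw [Subgroup.mem_centralizer_iff]
    intro x hx
    exact congrArg Subtype.val (IsMulCommutative.is_comm.comm (⟨x, hx⟩ : P) ⟨g, hN g hg⟩)
  set K := (MonoidHom.transferSylow S hle).ker
  have hcompl := MonoidHom.ker_transferSylow_isComplement' S hle
  have hK : Nat.card K = 15 := by
    have h := hcompl.card_mul
    rw [hG] at h
    change Nat.card K * Nat.card P = 60 at h
    rw [hP] at h
    omega
  haveI : Fact (Nat.Prime 3) := ⟨Nat.prime_three⟩
  haveI : Fact (Nat.Prime 5) := ⟨by norm_num⟩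
  obtain ⟨x, hx⟩ := exists_prime_orderOf_dvd_card' (G := K) 5 (by rw [hK]; norm_num)
  obtain ⟨y, hy⟩ := exists_prime_orderOf_dvd_card' (G := K) 3 (by rw [hK]; norm_num)
  have hidx : (Subgroup.zpowers x).index = 3 := by
    have h := (Subgroup.zpowers x).card_mul_index
    rw [Nat.card_zpowers, hx, hK] at h
    omega
  haveI := Subgroup.normal_of_index_eq_minFac_card (H := Subgroup.zpowers x) (by rw [hidx, hK]; norm_num)
  obtain ⟨k, hk⟩ : y * x * y⁻¹ ∈ Subgroup.zpowers x :=
    Subgroup.Normal.conj_mem inferInstance x (Subgroup.mem_zpowers x) y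
  have hiter : ∀ m : ℕ, y ^ m * x * (y ^ m)⁻¹ = x ^ (k ^ m) := by
    intro m
    induction m with
    | zero => simp
    | succ m ih =>
      calc y ^ (m + 1) * x * (y ^ (m + 1))⁻¹ = y ^ m * (y * x * y⁻¹) * (y ^ m)⁻¹ := by group
        _ = (y ^ m * x * (y ^ m)⁻¹) ^ k := by rw [conj_zpow, show y * x * y⁻¹ = x ^ k from hk.symm]
        _ = _ := by rw [ih, ← zpow_mul, pow_succ]
  have h3 := hiter 3
  rw [show y ^ 3 = 1 by rw [← hy, pow_orderOf_eq_one], one_mul, inv_one, mul_one] at h3
  have hk5 : (5 : ℤ) ∣ k ^ 3 - 1 := by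
    have e : x ^ (k ^ 3 - 1) = 1 := by rw [zpow_sub, ← h3, zpow_one, mul_inv_cancel]
    have := orderOf_dvd_iff_zpow_eq_one.2 e
    rwa [hx] at this
  have hk1 : (5 : ℤ) ∣ k - 1 := by
    have : ((k : ZMod 5)) ^ 3 = 1 := by
      have := (ZMod.intCast_zmod_eq_zero_iff_dvd (k ^ 3 - 1) 5).2 (by exact_mod_cast hk5)
      push_cast at this
      exact sub_eq_zero.1 this
    have h := zmod_five_cube _ this
    have := (ZMod.intCast_zmod_eq_zero_iff_dvd (k - 1) 5).1 (by push_cast; rw [h, sub_self])
    exact_mod_cast this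
  have hxk : x ^ k = x := by
    obtain ⟨r, hr⟩ := hk1
    rw [show k = 5 * r + 1 by omega, zpow_add, zpow_one, zpow_mul, show x ^ (5 : ℤ) = 1 by
      rw [show (5 : ℤ) = ((5 : ℕ) : ℤ) from rfl, zpow_natCast, ← hx, pow_orderOf_eq_one], one_zpow, one_mul]
  have hc : Commute y x := by
    show y * x = x * y
    calc y * x = (y * x * y⁻¹) * y := by group
      _ = _ := by rw [show y * x * y⁻¹ = x ^ k from hk.symm, hxk]
  refine ⟨((y * x : K) : G), ?_⟩
  rw [Subgroup.orderOf_coe, hc.orderOf_mul_eq_mul_orderOf_of_coprime (by rw [hx, hy]; norm_num), hx, hy]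

/-- The possibilities for a subgroup of the symmetric group. -/
theorem perm_six_cases (H : Subgroup (Perm (Fin 6))) (h60 : 60 ∣ Nat.card H) (htop : H ≠ ⊤)
    (hno : Nat.card H = 60 → ∃ P : Subgroup H, Nat.card P = 4 ∧ ∀ g ∈ Subgroup.normalizer (P : Set H), g ∈ P) :
    Nonempty (↥H ≃* ↥(alternatingGroup (Fin 6))) ∨ Nonempty (↥H ≃* Perm (Fin 5)) := by
  classical
  by_cases hA : H = alternatingGroup (Fin 6)
  · exact Or.inl ⟨MulEquiv.subgroupCongr hA⟩
  have h6 := SymIdx.card_le_index H (by simp) htop hA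
  have hmul := H.card_mul_index
  rw [Nat.card_perm, Nat.card_fin, show (6 : ℕ).factorial = 720 from rfl] at hmul
  obtain ⟨r, hr⟩ := h60
  simp only [Fintype.card_fin] at h6
  have hr0 : 0 < r := Nat.pos_of_ne_zero fun h => by rw [h, mul_zero] at hr; exact Nat.card_pos.ne' hr
  have hr2 : r ≤ 2 := by
    by_contra hgt
    push Not at hgt
    have : 180 * 6 ≤ Nat.card H * H.index := Nat.mul_le_mul (by omega) h6
    omega
  rcases (show r = 1 ∨ r = 2 by omega) with rfl | rfl
  · obtain ⟨P, hP, hN⟩ := hno (by omega)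
    obtain ⟨g, hg⟩ := exists_order_fifteen (by omega) P hP hN
    exact absurd ((Subgroup.orderOf_coe g).trans hg) (orderOf_ne_fifteen _)
  · right
    exact Cfsg.Agent.S5945.result.2.1 H (by rw [hr] at hmul; omega)

end Cfsg.Lib.Linear.TransvX
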